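import Cfsg.Agent.UGT.I34.FourDefs
import Cfsg.Agent.UGT.I34.FourCount
import Cfsg.Agent.Intrinsic.BigBal

/-!
# THEOREM I34, part [C] (`Z = 2²`): balance for big pump-ups (field `bal` of `FrameE`)

`(u, X)` a pair, `s` an involution commuting with `u` and fixing `X`, `M` the 2-component of `C(s)` above `cen X s`,
`M` big (`He`). Then `O(C(u)) ∩ C(s) ≤ O(C(s))`.

`AutL κ`: an automorphism of `He` trivial on `L = C(z)^∞` is inner by a central element of `L`.
-/

set_option autoImplicit false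

open Cfsg Subgroup
open Cfsg.Agent.SignalizersComponents Cfsg.Agent.Lib
open Cfsg.Agent.SignalizersComponents.IntrinsicBasic
open Cfsg.Agent.SignalizersComponents.PLayerAut
open Cfsg.Agent.Intrinsic
open Cfsg.Agent.Intrinsic.Basic hiding IsPair PQS Target IsPair.sq IsPair.ne_one IsPair.cj
open Cfsg.Agent.Intrinsic.Cen hiding pair_comm pair_mem_cen exists_pump pump_unique
open Cfsg.Agent.Intrinsic.Quot hiding Big isPair_quot small_or_big mk_eq_one_iff
open Cfsg.Agent.McLLyComp.Act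
open Cfsg.Agent.UGT.I34.Pair Cfsg.Agent.UGT.I34.KAut Cfsg.Agent.UGT.I34.Four
open scoped commutatorElement

namespace Cfsg.Agent.UGT.I34.HeP.Bal

universe u

/-- (HE3) -/
def AutL (κ : Kind.{u}) : Prop :=
  ∀ {Y : Type u} [Group Y] [Finite Y] {z : Y} {L : Subgroup Y}, κ.T Y z L → IsPair κ z L →
    ∀ φ : MulAut Y, (∀ l ∈ L, φ l = l) → ∃ c ∈ L, (∀ l ∈ L, c * l = l * c) ∧ ∀ y, φ y = c * y * c⁻¹

variable {κ : Kind.{u}} {G : Type u} [Group G] [Finite G] {u s a q : G} {X M J H : Subgroup G}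

/-- an element of `N(M)` centralizing `J` modulo `O(M)`, in the big case, has square fixing `M` -/
theorem sq_fixes (S : Sett κ G) (hE : AutL κ) (hb : Big κ u J M) (hu : orderOf u = 2) (huJ : u ∈ J)
    (hJ : IsComp (H ⊓ centralizer ({u} : Set G)) J) (hk : κ.P (↥J ⧸ oddCore ↥J)) (hM : IsComp H M)
    (hJM : J ≤ M) (ha : a ∈ normalizer (M : Set G)) (haJ : ∀ j ∈ J, j⁻¹ * (a * j * a⁻¹) ∈ core M) :
    Fixes (a * a) M := by
  obtain ⟨huM, hT, hp⟩ := Sett.big_pair hb hu huJ hJ hk hM hJM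
  obtain ⟨c, hc, hcc, hφ⟩ := hE hT hp (act M ⟨a, ha⟩) (by
    intro l hl
    obtain ⟨⟨l, hlM⟩, rfl⟩ := QuotientGroup.mk_surjective l
    obtain ⟨j, hj, hjl⟩ := (mem_qs hlM).mp hl
    have e1 : (QuotientGroup.mk ⟨l, hlM⟩ : ↥M ⧸ oddCore ↥M) = QuotientGroup.mk ⟨j, hj.2⟩ :=
      ((mk_eq_iff hj.2 hlM).mpr hjl).symm
    rw [e1, act_mk ha hj.2]
    exact ((mk_eq_iff hj.2 (conj_mem ha hj.2)).mpr (haJ j hj.1)).symm)
  have h1 : oddCore ↥(qs M J) = ⊥ := S.he.core hT hp
  have hcc2 : c * c = 1 := by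
    have h2 : (QuotientGroup.mk ⟨c, hc⟩ : ↥(qs M J) ⧸ oddCore ↥(qs M J)) ∈ center _ := by
      rw [mem_center_iff]
      intro y
      obtain ⟨⟨y, hy⟩, rfl⟩ := QuotientGroup.mk_surjective y
      exact congrArg _ (Subtype.ext (hcc y hy).symm)
    have h3 := S.kl.sq hp.kind _ h2
    have h4 : (QuotientGroup.mk (⟨c, hc⟩ * ⟨c, hc⟩ : ↥(qs M J)) : ↥(qs M J) ⧸ oddCore ↥(qs M J)) = 1 := h3
    rw [QuotientGroup.eq_one_iff, h1, mem_bot] at h4
    exact congrArg Subtype.val h4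
  rw [← act_eq_one_iff (mul_mem ha ha), act_mul ha ha]
  apply MulEquiv.ext
  intro y
  rw [MulAut.mul_apply, hφ, hφ, MulAut.one_apply]
  have hci : c⁻¹ = c := inv_eq_of_mul_eq_one_left hcc2
  calc c * (c * y * c⁻¹) * c⁻¹ = (c * c) * y * (c⁻¹ * c⁻¹) := by group
    _ = y := by rw [hci, hcc2, one_mul, mul_one]

/-- an odd element of `N(M)` centralizing `J` modulo `O(M)`, in the big case, fixes `M` -/
theorem fixes_of_odd (S : Sett κ G) (hE : AutL κ) (hb : Big κ u J M) (hu : orderOf u = 2) (huJ : u ∈ J)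
    (hJ : IsComp (H ⊓ centralizer ({u} : Set G)) J) (hk : κ.P (↥J ⧸ oddCore ↥J)) (hM : IsComp H M)
    (hJM : J ≤ M) (ha : a ∈ normalizer (M : Set G)) (haJ : ∀ j ∈ J, j⁻¹ * (a * j * a⁻¹) ∈ core M)
    (hodd : Odd (orderOf a)) : Fixes a M := by
  have h1 := sq_fixes S hE hb hu huJ hJ hk hM hJM ha haJ
  have h2 : act M ⟨a, ha⟩ ^ 2 = 1 := by
    rw [pow_two, ← act_mul ha ha, act_eq_one_iff]
    exact h1
  have h3 : act M ⟨a, ha⟩ ^ orderOf a = 1 := by
    rw [← map_pow]
    have : (⟨a, ha⟩ : ↥(normalizer (M : Set G))) ^ orderOf a = 1 := Subtype.ext (pow_orderOf_eq_one a)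
    rw [this, map_one]
  rw [← act_eq_one_iff ha, ← orderOf_eq_one_iff]
  have h4 := orderOf_dvd_of_pow_eq_one h2
  have h5 := orderOf_dvd_of_pow_eq_one h3
  have h6 : orderOf (act M ⟨a, ha⟩) ∣ Nat.gcd 2 (orderOf a) := Nat.dvd_gcd h4 h5
  have h7 : Nat.gcd 2 (orderOf a) = 1 := by
    rw [← Nat.coprime_iff_gcd_eq_one, Nat.coprime_two_left]
    exact hodd
  rw [h7] at h6
  exact Nat.dvd_one.mp h6

/-- **Balance.** -/
theorem bal (S : Sett κ G) (hE : AutL κ) (h : IsPair κ u X) (hss : s * s = 1) (hsu : s * u = u * s)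
    (hf : Fixes s X) (hM : IsComp (centralizer ({s} : Set G)) M) (hle : cen X s ≤ M)
    (hB : Big κ u (cen X s) M) {x : G} (hx : x ∈ core (centralizer ({u} : Set G))) (hxs : x * s = s * x) :
    x ∈ core (centralizer ({s} : Set G)) := by
  have hsC : s ∈ centralizer ({u} : Set G) := mem_centralizer_singleton_iff.mpr hsu
  have hcen := isComp_cen h.comp hsC hss hf
  have huJ : u ∈ cen X s := pair_mem_cen h hsu
  have hcJ : core (cen X s) = cen X s ⊓ core X := core_cen h.comp hsC hss hf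
  have hJM : IsComp (centralizer ({s} : Set G) ⊓ centralizer ({u} : Set G)) (cen X s) := by
    rw [inf_comm]; exact hcen.1
  have hk : κ.P (↥(cen X s) ⧸ oddCore ↥(cen X s)) := (kind_cen (κ := κ) h.comp hsC hss hf).mpr h.kind
  obtain ⟨huM, hT, hp⟩ := Sett.big_pair hB h.inv huJ hJM hk hM hle
  have hcoreM : core (cen X s) ≤ core M := FourG.core_le_of_qs hle (S.he.core hT hp)
  -- the members of `Q = O(C(u)) ∩ C(s)` fix `M`
  have key : ∀ q ∈ core (centralizer ({u} : Set G)), q * s = s * q → Fixes q M := by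
    intro q hq hqs
    have hqX : Fixes q X := h.comp.fixes_of_core hq
    have hqJ : q ∈ normalizer (cen X s : Set G) := mem_normalizer_cen hqX.1 hqs
    have hqS : q ∈ centralizer ({s} : Set G) := mem_centralizer_singleton_iff.mpr hqs
    -- `q` normalizes `M`
    have hqM : q ∈ normalizer (M : Set G) := by
      rw [mem_normalizer_iff_cj]
      have h1 : IsComp (centralizer ({s} : Set G)) (cj q M) := by
        have h2 := hM.cj q
        have h3 : q ∈ normalizer (centralizer ({s} : Set G) : Set G) := le_normalizer hqS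
        rw [mem_normalizer_iff_cj] at h3
        rwa [h3] at h2
      refine hcen.1.unique h1 hM ?_ hle
      rw [mem_normalizer_iff_cj] at hqJ
      rw [← hqJ]
      exact cj_mono hle
    have hqJ' : ∀ j ∈ cen X s, j⁻¹ * (q * j * q⁻¹) ∈ core M := by
      intro j hj
      apply hcoreM
      rw [hcJ]
      exact ⟨(cen X s).mul_mem ((cen X s).inv_mem hj) ((mem_normalizer_iff.mp hqJ j).mp hj),
        (fixes_iff_conj.mp hqX).2 j (cen_le X s hj)⟩
    exact fixes_of_odd S hE hB h.inv huJ hJM hk hM hle hqM hqJ'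
      (Odd.of_dvd_nat (odd_card_core _) (Subgroup.orderOf_dvd_natCard _ hq))
  -- `Q`
  have hQ : core (centralizer ({u} : Set G)) ⊓ centralizer ({s} : Set G) ≤ core (centralizer ({s} : Set G)) := by
    refine BigBal.le_core_of_cent hM huM h.sq ?_ ?_ (Odd.of_dvd_nat (odd_card_core _) (card_dvd_of_le inf_le_left))
    · rintro q ⟨hq, hqS⟩
      exact (hM.fixes_iff hqS).mp (key q hq (mem_centralizer_singleton_iff.mp hqS))
    · rintro c ⟨hcs, hcu⟩
      have e1 : c ∈ normalizer (core (centralizer ({u} : Set G)) : Set G) := le_normalizer_core _ hcu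
      have e2 : c ∈ normalizer (centralizer ({s} : Set G) : Set G) := le_normalizer hcs
      rw [mem_normalizer_iff_cj] at e1 e2 ⊢
      rw [cj_inf, e1, e2]
  exact hQ ⟨hx, mem_centralizer_singleton_iff.mpr hxs⟩

end Cfsg.Agent.UGT.I34.HeP.Bal
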