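import Mathlib
import Cfsg.Agent.Intrinsic.WOneA.Comp

/-!
Theorem I34, part [C] (`Z = 2²`), type (0) pairs outside vessels: the abstract record `FrameE` (text #15072).

`FrameC` of `WOneC` with "involution of `L u` / of `cmp x u`" restricted to `D`.

* `ZP D L u s`: the pairs of type (0): `u, s ∈ D`, `s` centralizes `L u` modulo core, `s ∉ L u`.
* `Adj D`, `Gam D z`: the commuting graph on `D`, the component of `z`.
-/

set_option autoImplicit false

namespace Cfsg.Agent.UGT.I34.HeP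

open Subgroup Cfsg
open Cfsg.Agent.SignalizersComponents.PLayerAut
open Cfsg.Agent.SignalizersComponents.IntrinsicBasic
open Cfsg.Agent.SignalizersComponents.RelSylow
open Cfsg.Agent.Intrinsic.WOneA (Ce OC)

section defs

variable {G : Type*} [Group G]

/-- pairs of type (0): `s ∈ K_u − L_u` -/
structure ZP (D : Set G) (L : G → Subgroup G) (u s : G) : Prop where
  left : u ∈ D
  right : s ∈ D
  mem : s ∈ cenMod (Ce u) (L u)
  nmem : s ∉ L u

/-- the commuting graph on `D` -/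
def Adj (D : Set G) (a b : G) : Prop := a ∈ D ∧ b ∈ D ∧ Commute a b

/-- the component of `z` in the commuting graph on `D` -/
def Gam (D : Set G) (z : G) : Set G := {w | Relation.ReflTransGen (Adj D) z w}

end defs

/-- The output of section 5 in the world with type (0) pairs outside vessels. -/
structure FrameE (G : Type*) [Group G] where
  /-- the set `D` of involutions -/
  D : Set G
  /-- `L u = L_u` -/
  L : G → Subgroup G
  /-- `cmp x u = M_x(L_u)` -/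
  cmp : G → G → Subgroup G
  ord : ∀ u ∈ D, orderOf u = 2
  conj : ∀ u ∈ D, ∀ g : G, g * u * g⁻¹ ∈ D
  L_conj : ∀ u ∈ D, ∀ g : G, L (g * u * g⁻¹) = cj g (L u)
  L_comp : ∀ u ∈ D, TC (Ce u) (L u)
  self_mem : ∀ u ∈ D, u ∈ L u
  /-- `u, t ∈ D`, `t ∈ L u` is symmetric -/
  mem_symm : ∀ u ∈ D, ∀ t ∈ D, t ∈ L u → u ∈ L t
  /-- `u, v ∈ D`, `v ∈ K u` is symmetric -/
  symm : ∀ u ∈ D, ∀ v ∈ D, v ∈ cenMod (Ce u) (L u) → u ∈ cenMod (Ce v) (L v)
  /-- every element of `D` has a partner of type (0) -/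
  exZ : ∀ u ∈ D, ∃ s, ZP D L u s
  /-- the product of a pair of type (0) is not in `D` -/
  prod : ∀ u s : G, ZP D L u s → u * s ∉ D
  /-- a 2-group `V` centralizing `L u` modulo core centralizes some `t ≠ u` of `D ∩ L u` with `u t ∈ D` -/
  exists_inv : ∀ u ∈ D, ∀ V : Subgroup G, IsPGroup 2 V → V ≤ cenMod (Ce u) (L u) →
    ∃ t ∈ L u, t ∈ D ∧ t ≠ u ∧ u * t ∈ D ∧ ∀ v ∈ V, Commute t v
  cmp_comp : ∀ u ∈ D, ∀ x ∈ cenMod (Ce u) (L u), orderOf x = 2 → TC (Ce x) (cmp x u)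
  cmp_self : ∀ u ∈ D, cmp u u = L u
  cmp_conj : ∀ u ∈ D, ∀ x ∈ cenMod (Ce u) (L u), orderOf x = 2 → ∀ g : G,
    cmp (g * x * g⁻¹) (g * u * g⁻¹) = cj g (cmp x u)
  /-- 2-elements of `L u` commuting with `x` are in `M_x(L_u)` -/
  mem_cmp : ∀ u ∈ D, ∀ x ∈ cenMod (Ce u) (L u), orderOf x = 2 → ∀ a ∈ L u, ∀ n : ℕ,
    a ^ 2 ^ n = 1 → Commute a x → a ∈ cmp x u
  /-- an involution of `M_x(L_u)` centralizing `L u` modulo core is in `L u` -/
  of_cmp : ∀ u ∈ D, ∀ x ∈ cenMod (Ce u) (L u), orderOf x = 2 → ∀ a ∈ cmp x u, orderOf a = 2 →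
    a ∈ cenMod (Ce u) (L u) → a ∈ L u
  /-- for a pair of type (0) the elements of `D` in `M_s(L_u)` are conjugate in it -/
  big : ∀ u s : G, ZP D L u s → ∀ t ∈ D, t ∈ cmp s u → ∃ g ∈ cmp s u, g * u * g⁻¹ = t
  /-- two commuting elements of `D` are of type (0) or have a common partner -/
  common : ∀ u ∈ D, ∀ v ∈ D, u ≠ v → Commute u v → ZP D L u v ∨ ∃ s, ZP D L u s ∧ ZP D L v s
  /-- (C2) -/
  memC : ∀ u s : G, ZP D L u s → ∀ v ∈ D, Commute v u → Commute v s → v ∉ L u →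
    v ∉ cenMod (Ce u) (L u) → ZP D L v s ∧ v ∈ cmp s u
  /-- (C5): commuting partners `s, j` of `u`: `j` centralizes `M_s(L_u)` modulo core -/
  cen5 : ∀ u s : G, ZP D L u s → ∀ j : G, ZP D L u j → Commute s j →
    j ∈ cenMod (Ce s) (cmp s u)
  /-- balance for pairs of type (0) -/
  bal : ∀ u s : G, ZP D L u s → ∀ x ∈ OC u, Commute x s → x ∈ OC s
  /-- (SE0) with cores, small or big -/
  se : ∀ u ∈ D, ∀ x ∈ cenMod (Ce u) (L u), orderOf x = 2 → ∀ S : Set G, u ∈ S →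
    (∀ t ∈ S, ∀ t' ∈ D, t' ∈ cmp x u → Commute t t' → t' ∈ S) →
    (∀ t ∈ S, ∀ o ∈ OC x, o * t * o⁻¹ ∈ S) → ∀ t ∈ D, t ∈ cmp x u → t ∈ S
  /-- an involution of `M_x(L_u)` centralizes an element of `D ∩ M_x(L_u)` -/
  cmp_fix : ∀ u ∈ D, ∀ x ∈ cenMod (Ce u) (L u), orderOf x = 2 → ∀ c ∈ cmp x u, orderOf c = 2 →
    ∃ d ∈ D, d ∈ cmp x u ∧ Commute d c
  /-- the diagonal: if the involution `b` swaps `v` and `v'` (a pair of type (0)) then `v v'` is in a 2-component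
  of `C(b)`, not in `L b` if `b ∈ D` -/
  diag : ∀ b : G, orderOf b = 2 → ∀ v : G, ZP D L v (b * v * b⁻¹) →
    ∃ R, TC (Ce b) R ∧ v * (b * v * b⁻¹) ∈ R ∧ (b ∈ D → v * (b * v * b⁻¹) ∉ L b)
  /-- an involution of a proper subgroup `N` containing `C(u)`, `u ∈ Γ_z`, commutes with an element of `Γ_z` or
  swaps a pair of type (0) in `Γ_z` -/
  fix_or_swap : ∀ z ∈ D, ∀ N : Subgroup G, N ≠ ⊤ → (∀ u ∈ Gam D z, Ce u ≤ N) → ∀ b ∈ N,
    orderOf b = 2 → (∃ d ∈ Gam D z, Commute d b) ∨ ∃ t ∈ Gam D z, ZP D L t (b * t * b⁻¹)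

namespace FrameE

variable {G : Type*} [Group G] (F : FrameE G)

/-- `K_u` -/
def K (u : G) : Subgroup G := cenMod (Ce u) (F.L u)

/-- pairs of type (0) -/
abbrev Z (u s : G) : Prop := ZP F.D F.L u s

/-- connected in the commuting graph on `D` -/
abbrev Con (a b : G) : Prop := Relation.ReflTransGen (Adj F.D) a b

end FrameE

end Cfsg.Agent.UGT.I34.HeP
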