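import Cfsg.Agent.UGT.I34.FourDefs
import Cfsg.Agent.UGT.I34.RankOne
import Cfsg.Agent.UGT.I34.WOne
import Cfsg.Agent.UGT.I34.HeP.FrameE
import Cfsg.Agent.SignalizersComponents.CoprimeGen

/-!
# I34 [C], supply of `FrameE`: the fields independent of (5.2)-(5.5)

* `HeX κ`: facts on the targets `(He, z, C(z)^∞)`: (HE1), (HE2).
* `SW κ D L`: the part of the world used here.
* fields `ord`, `conj`, `L_conj`, `L_comp`, `self_mem`, `symm`, `exists_inv`, `cmp_*`, `mem_cmp`, `of_cmp`, `cmp_fix`;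
  `cmp x u = pump x (L u)`.
-/

set_option autoImplicit false
set_option linter.unusedSectionVars false
set_option linter.unusedVariables false

open Cfsg Subgroup
open Cfsg.Agent.SignalizersComponents Cfsg.Agent.Lib
open Cfsg.Agent.SignalizersComponents.IntrinsicBasic
open Cfsg.Agent.SignalizersComponents.PLayerAut
open Cfsg.Agent.SignalizersComponents.RelSylow
open Cfsg.Agent.Intrinsic
open Cfsg.Agent.Intrinsic.Basic hiding IsPair PQS Target IsPair.sq IsPair.ne_one IsPair.cj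
open Cfsg.Agent.Intrinsic.Cen hiding pair_comm pair_mem_cen exists_pump pump_unique
open Cfsg.Agent.Intrinsic.Quot hiding Big isPair_quot small_or_big
open Cfsg.Agent.Intrinsic.WOneA (Ce OC)
open Cfsg.Agent.UGT.I34.Pair Cfsg.Agent.UGT.I34.WOne
open Cfsg.Agent.UGT.I34.Four (Sett Can HeT Klein)
open Cfsg.Agent.McLLyComp.Act hiding mk_eq_one_iff

namespace Cfsg.Agent.UGT.I34.HeP

universe v

/-- Facts on the targets `(He, z, C(z)^∞)`. -/
structure HeX (κ : Kind.{v}) : Prop where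
  /-- (HE1) -/
  fix : ∀ {Y : Type v} [Group Y] [Finite Y] {z : Y} {L : Subgroup Y}, κ.T Y z L → IsPair κ z L →
    ∀ φ : MulAut Y, φ * φ = 1 → ∃ g, φ (g * z * g⁻¹) = g * z * g⁻¹
  /-- (HE2) -/
  conn : ∀ {Y : Type v} [Group Y] [Finite Y] {z : Y} {L : Subgroup Y}, κ.T Y z L → IsPair κ z L →
    ∀ S : Set Y, z ∈ S → (∀ s ∈ S, ∀ g, s * (g * z * g⁻¹) = g * z * g⁻¹ * s → g * z * g⁻¹ ∈ S) →
      ∀ g, g * z * g⁻¹ ∈ S

/-- The part of the world used in the supply. -/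
structure SW (κ : Kind.{v}) {G : Type v} [Group G] [Finite G] (D : Set G) (L : G → Subgroup G) :
    Prop where
  sett : Sett κ G
  hex : HeX κ
  solv : ∀ {K : Type v} [Group K] [Finite K], κ.P K → ∀ t : K, t * t = 1 → t ∉ center K →
    ∀ A : Subgroup K, (∀ a ∈ A, a * t = t * a) → ⁅A, A⁆ = A → A = ⊥
  pair : ∀ {u : G}, u ∈ D → IsPair κ u (L u)
  one : ∀ {u : G}, u ∈ D → ∀ {X : Subgroup G}, IsPair κ u X → X = L u
  conj : ∀ {u : G}, u ∈ D → ∀ g : G, g * u * g⁻¹ ∈ D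
  vess : ∀ {u w : G}, u ∈ D → w ∈ L u → w * w = 1 → w ≠ 1 → Fixes w (L u) → w ∈ D
  can : ∀ {u t : G}, u ∈ D → ∀ ht : t ∈ L u, t * t = 1 →
    Can (QuotientGroup.mk ⟨t, ht⟩ : ↥(L u) ⧸ oddCore ↥(L u)) → t ∈ D ∧ u ∈ L t
  cls : ∀ {u x t : G}, u ∈ D → x * x = 1 → x ≠ 1 → x * u = u * x → Fixes x (L u) →
    IsBig κ u (L u) x → t ∈ D → t ∈ pump x (L u) → ∃ g ∈ pump x (L u), g * u * g⁻¹ = t
  prod : ∀ {u s : G}, ZP D L u s → u * s ∉ D

section general

variable {G : Type v} [Group G] [Finite G]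

theorem sq_of {x : G} (h : orderOf x = 2) : x * x = 1 := by
  rw [← pow_two, ← h]; exact pow_orderOf_eq_one x

theorem ne_of {x : G} (h : orderOf x = 2) : x ≠ 1 := by
  rintro rfl; rw [orderOf_one] at h; omega

theorem order_two {x : G} (hx2 : x * x = 1) (hx1 : x ≠ 1) : orderOf x = 2 :=
  orderOf_eq_prime (by rw [pow_two]; exact hx2) hx1

theorem sq_cj {g y : G} (hy : y * y = 1) : g * y * g⁻¹ * (g * y * g⁻¹) = 1 := by
  rw [show g * y * g⁻¹ * (g * y * g⁻¹) = g * (y * y) * g⁻¹ by group, hy]; group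

/-- an involution normalizing `M` and commuting modulo `O(M)` with the 2-element `c` has a conjugate under `O(M)`
which commutes with `c`. -/
theorem exists_core_comm {M : Subgroup G} {c y : G} {n : ℕ} (hc : c ^ 2 ^ n = 1)
    (hcM : c ∈ normalizer (M : Set G)) (hy : y * y = 1) (hyM : y ∈ normalizer (M : Set G))
    (h : y⁻¹ * (c * y * c⁻¹) ∈ core M) : ∃ o ∈ core M, Commute (o * y * o⁻¹) c := by
  have hcN := normalizer_le_normalizer_core M hcM
  have hyN := normalizer_le_normalizer_core M hyM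
  obtain ⟨o, ho, h1, h2⟩ := Lifting.exists_involution (odd_card_core M) hc hcN hyN
    (by rw [hy]; exact one_mem _) h
  obtain ⟨p, hp, h3⟩ := Lifting.exists_conj_eq (odd_card_core M) (v := y) (v' := y * o) (n := 1)
    (m := 1) (by rw [pow_one, pow_two, hy]) (by rw [pow_one, pow_two, h1]) hyN
    (by rw [inv_mul_cancel_left]; exact ho)
  refine ⟨p, hp, ?_⟩
  rw [h3]
  exact h2.symm

/-- the same for involutions of `M`, in the language of `M / O(M)` -/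
theorem exists_core_comm' {M : Subgroup G} {c y : G} {n : ℕ} (hc : c ^ 2 ^ n = 1)
    (hcM : c ∈ M) (hy : y * y = 1) (hyM : y ∈ M)
    (h : (QuotientGroup.mk ⟨y, hyM⟩ : ↥M ⧸ oddCore ↥M) * QuotientGroup.mk ⟨c, hcM⟩ =
      QuotientGroup.mk ⟨c, hcM⟩ * QuotientGroup.mk ⟨y, hyM⟩) :
    ∃ o ∈ core M, Commute (o * y * o⁻¹) c :=
  exists_core_comm hc (le_normalizer hcM) hy (le_normalizer hyM) ((mk_comm_iff hyM hcM).mp h)

/-- congruent involutions of `M` are conjugate under `O(M)` -/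
theorem exists_core_conj {M : Subgroup G} {x y : G} (hx : x ∈ M) (hy : y ∈ M) (hx2 : x * x = 1)
    (hy2 : y * y = 1) (h : (QuotientGroup.mk ⟨x, hx⟩ : ↥M ⧸ oddCore ↥M) = QuotientGroup.mk ⟨y, hy⟩) :
    ∃ o ∈ core M, o * x * o⁻¹ = y :=
  Lifting.exists_conj_eq (odd_card_core M) (n := 1) (m := 1) (by rw [pow_one, pow_two, hx2])
    (by rw [pow_one, pow_two, hy2]) (le_normalizer_core M hx) ((mk_eq_mk_iff' hx hy).mp h)

end general

/-- In a big pump-up `O(J) ≤ O(M)`. -/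
theorem big_core_le {κ : Kind.{v}} (hX : HeT κ) {G : Type v} [Group G] [Finite G] {u : G}
    {J M : Subgroup G} (hJM : J ≤ M) {hu : u ∈ M}
    (hT : κ.T (↥M ⧸ oddCore ↥M) (QuotientGroup.mk ⟨u, hu⟩) (qs M J))
    (hp : IsPair κ (QuotientGroup.mk ⟨u, hu⟩ : ↥M ⧸ oddCore ↥M) (qs M J)) : core J ≤ core M := by
  have h4 := hX.core hT hp
  obtain ⟨e, he⟩ := exists_qs_equiv hJM
  intro j hj
  have hjJ := Basic.core_le J hj
  have h1 := he j hjJ
  rw [(mk_eq_one_iff hjJ).mpr hj, map_one] at h1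
  have h2 := (QuotientGroup.eq_one_iff _).mp h1.symm
  rw [h4, mem_bot] at h2
  exact (mk_eq_one_iff (hJM hjJ)).mp (congrArg Subtype.val h2)

namespace SW

variable {G : Type v} [Group G] [Finite G] {κ : Kind.{v}} {D : Set G} {L : G → Subgroup G}
  {u v t x s a b : G}

theorem sq (h : SW κ D L) (hu : u ∈ D) : u * u = 1 := (h.pair hu).sq

theorem ne_one (h : SW κ D L) (hu : u ∈ D) : u ≠ 1 := (h.pair hu).ne_one

theorem mem (h : SW κ D L) (hu : u ∈ D) : u ∈ L u := (h.pair hu).mem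

theorem comp (h : SW κ D L) (hu : u ∈ D) : IsComp (centralizer ({u} : Set G)) (L u) :=
  (h.pair hu).comp

theorem comm (h : SW κ D L) (hu : u ∈ D) (hx : x ∈ L u) : x * u = u * x := pair_comm (h.pair hu) hx

theorem L_conj (h : SW κ D L) (hu : u ∈ D) (g : G) : L (g * u * g⁻¹) = cj g (L u) :=
  (h.one (h.conj hu g) ((h.pair hu).cj g)).symm

theorem norm (h : SW κ D L) (hu : u ∈ D) {a : G} (ha : a * u = u * a) :
    a ∈ normalizer (L u : Set G) := by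
  have h1 := h.L_conj hu a
  rw [ha, mul_inv_cancel_right] at h1
  rw [mem_normalizer_iff_cj]
  exact h1.symm

theorem symm (h : SW κ D L) (hu : u ∈ D) (hv : v ∈ D) (huv : u * v = v * u) (hf : Fixes v (L u)) :
    Fixes u (L v) := typeZero_symm' (h.pair hu) (h.pair hv) huv hf

theorem small_or_big (h : SW κ D L) (hu : u ∈ D) (hxx : x * x = 1) (hx1 : x ≠ 1)
    (hx : x * u = u * x) (hf : Fixes x (L u)) : IsSmall (L u) x ∨ IsBig κ u (L u) x :=
  isSmall_or_isBig h.sett.ih h.sett.cent (h.pair hu) hxx hx1 hx hf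

theorem fixes_self (h : SW κ D L) (hu : u ∈ D) : Fixes u (L u) := by
  rw [fixes_iff_conj]
  refine ⟨le_normalizer (h.mem hu), fun y hy => ?_⟩
  rw [← h.comm hu hy, mul_inv_cancel_right, inv_mul_cancel]
  exact one_mem _

theorem mem_K (h : SW κ D L) (hu : u ∈ D) : x ∈ cenMod (Ce u) (L u) ↔ x * u = u * x ∧ Fixes x (L u) := by
  constructor
  · intro hx
    have h1 := cenMod_le _ _ hx
    exact ⟨mem_centralizer_singleton_iff.mp h1, ((h.comp hu).fixes_iff h1).mpr hx⟩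
  · rintro ⟨h1, h2⟩
    exact ((h.comp hu).fixes_iff (mem_centralizer_singleton_iff.mpr h1)).mp h2

theorem self_mem_K (h : SW κ D L) (hu : u ∈ D) : u ∈ cenMod (Ce u) (L u) :=
  (h.mem_K hu).mpr ⟨rfl, h.fixes_self hu⟩

/-- the structure of a big pump-up -/
theorem big_pair (h : SW κ D L) (hu : u ∈ D) (hxx : x * x = 1) (hx : x * u = u * x)
    (hf : Fixes x (L u)) (hb : IsBig κ u (L u) x) : ∃ huM : u ∈ pump x (L u),
      κ.T (↥(pump x (L u)) ⧸ oddCore ↥(pump x (L u))) (QuotientGroup.mk ⟨u, huM⟩)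
        (qs (pump x (L u)) (cen (L u) x)) ∧
      IsPair κ (QuotientGroup.mk ⟨u, huM⟩ : ↥(pump x (L u)) ⧸ oddCore ↥(pump x (L u)))
        (qs (pump x (L u)) (cen (L u) x)) := by
  obtain ⟨huM, hT⟩ := hb
  exact ⟨huM, hT, isPair_quot (h.sq hu) (h.ne_one hu) (pair_mem_cen (h.pair hu) hx) huM
    (isComp_cen_inf (h.pair hu) hxx hx hf)
    ((kind_cen (h.comp hu) (mem_centralizer_singleton_iff.mpr hx) hxx hf).mpr (h.pair hu).kind)⟩

/-! ### fields of the record -/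

theorem ord (h : SW κ D L) : ∀ u ∈ D, orderOf u = 2 := fun _ hu => (h.pair hu).inv

theorem L_comp (h : SW κ D L) : ∀ u ∈ D, TC (Ce u) (L u) := fun _ hu => (h.comp hu).tc

theorem symm' (h : SW κ D L) : ∀ u ∈ D, ∀ v ∈ D, v ∈ cenMod (Ce u) (L u) →
    u ∈ cenMod (Ce v) (L v) := by
  intro u hu v hv hK
  obtain ⟨h1, h2⟩ := (h.mem_K hu).mp hK
  exact (h.mem_K hv).mpr ⟨h1.symm, h.symm hu hv h1.symm h2⟩

theorem cmp_comp (h : SW κ D L) : ∀ u ∈ D, ∀ x ∈ cenMod (Ce u) (L u), orderOf x = 2 →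
    TC (Ce x) (pump x (L u)) := by
  intro u hu x hx hx2
  obtain ⟨h1, h2⟩ := (h.mem_K hu).mp hx
  exact (pump_comp (h.pair hu) (sq_of hx2) h1 h2).tc

theorem cmp_self (h : SW κ D L) : ∀ u ∈ D, pump u (L u) = L u := fun u hu =>
  pump_eq (h.pair hu) (h.sq hu) rfl (h.fixes_self hu) (h.comp hu) (cen_le _ _)

theorem cmp_conj (h : SW κ D L) : ∀ u ∈ D, ∀ x ∈ cenMod (Ce u) (L u), orderOf x = 2 →
    ∀ g : G, pump (g * x * g⁻¹) (L (g * u * g⁻¹)) = cj g (pump x (L u)) := by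
  intro u hu x hx hx2 g
  obtain ⟨h1, h2⟩ := (h.mem_K hu).mp hx
  rw [h.L_conj hu]
  exact cj_pump (h.pair hu) (sq_of hx2) h1 h2 g

theorem mem_cmp (h : SW κ D L) : ∀ u ∈ D, ∀ x ∈ cenMod (Ce u) (L u), orderOf x = 2 →
    ∀ a ∈ L u, ∀ n : ℕ, a ^ 2 ^ n = 1 → Commute a x → a ∈ pump x (L u) := by
  intro u hu x hx hx2 a ha n hn hc
  obtain ⟨h1, h2⟩ := (h.mem_K hu).mp hx
  exact mem_pump_of_mem (h.pair hu) (sq_of hx2) h1 h2 ha hc hn

/-- `of_cmp` -/
theorem of_cmp (h : SW κ D L) : ∀ u ∈ D, ∀ x ∈ cenMod (Ce u) (L u), orderOf x = 2 →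
    ∀ a ∈ pump x (L u), orderOf a = 2 → a ∈ cenMod (Ce u) (L u) → a ∈ L u := by
  intro u hu x hx hx2 a ha ha2 haK
  obtain ⟨h1, h2⟩ := (h.mem_K hu).mp hx
  obtain ⟨h3, h4⟩ := (h.mem_K hu).mp haK
  have hxx := sq_of hx2
  have hJ := isComp_cen_inf (h.pair hu) hxx h1 h2
  have hM := pump_comp (h.pair hu) hxx h1 h2
  have hle := cen_le_pump (h.pair hu) hxx h1 h2
  have hax : a * x = x * a := mem_centralizer_singleton_iff.mp (hM.le ha)
  have key : ∃ j ∈ cen (L u) x, j⁻¹ * a ∈ core (pump x (L u)) := by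
    rcases h.small_or_big hu hxx (ne_of hx2) h1 h2 with hs | hb
    · exact exists_mul_of_sup hs ha
    · obtain ⟨huM, hT, hp⟩ := h.big_pair hu hxx h1 h2 hb
      have h5 := h.sett.he.cent hT hp
      have h6 : (QuotientGroup.mk ⟨a, ha⟩ : ↥(pump x (L u)) ⧸ oddCore ↥(pump x (L u))) ∈
          centralizer ((qs (pump x (L u)) (cen (L u) x) : Subgroup _) : Set _) := by
        rw [mem_centralizer_iff]
        intro y hy
        obtain ⟨⟨y, hyM⟩, rfl⟩ := QuotientGroup.mk_surjective y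
        obtain ⟨j, hj, hjy⟩ := (mem_qs hyM).mp hy
        have e1 : (QuotientGroup.mk ⟨y, hyM⟩ : ↥(pump x (L u)) ⧸ oddCore ↥(pump x (L u))) =
            QuotientGroup.mk ⟨j, hj.2⟩ := ((mk_eq_mk_iff' hj.2 hyM).mpr hjy).symm
        rw [e1, mk_comm_iff]
        have haJ : a ∈ normalizer (cen (L u) x : Set G) := mem_normalizer_cen h4.1 hax
        have hs := (isComp_cen (h.comp hu) (mem_centralizer_singleton_iff.mpr h1) hxx h2).2
        have haf : Fixes a (cen (L u) x) := (fixes_iff_of_sup hs haJ h4.1).mpr h4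
        exact big_core_le h.sett.he hle hT hp ((fixes_iff_conj.mp haf).2 j hj.1)
      have h7 := h5 h6
      obtain ⟨j, hj, hc⟩ := (mem_qs ha).mp h7
      exact ⟨j, hj.1, hc⟩
  obtain ⟨j, hj, hc⟩ := key
  exact cen_le _ _ (RankOne.mem_of_two' hJ h3 hj hc (n := 1) (by rw [pow_one, pow_two, sq_of ha2]))

/-- a central involution of `L u / O(L u)` other than `u` lifts to an involution commuting with a 2-group fixing
`L u` -/
theorem exists_vessel (h : SW κ D L) (hu : u ∈ D) {V : Subgroup G} (hV : IsPGroup 2 V)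
    (hf : ∀ a ∈ V, Fixes a (L u)) :
    ∃ t ∈ L u, t * t = 1 ∧ t ≠ 1 ∧ t ≠ u ∧ Fixes t (L u) ∧ ∀ a ∈ V, a * t = t * a := by
  have hk := (h.pair hu).kind
  have hcard := h.sett.kl.card hk
  have hsq := h.sett.kl.sq hk
  have humem := h.mem hu
  -- a third central element
  obtain ⟨t', ht'c, ht'1, ht'u⟩ : ∃ t' ∈ center (↥(L u) ⧸ oddCore ↥(L u)), t' ≠ 1 ∧
      t' ≠ QuotientGroup.mk ⟨u, humem⟩ := by
    by_contra hcon
    push Not at hcon
    have h1 : (center (↥(L u) ⧸ oddCore ↥(L u)) : Set (↥(L u) ⧸ oddCore ↥(L u))) ⊆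
        {1, (QuotientGroup.mk ⟨u, humem⟩ : ↥(L u) ⧸ oddCore ↥(L u))} := by
      intro t' ht'
      by_cases e : t' = 1
      · exact Or.inl e
      · exact Or.inr (hcon t' ht' e)
    have h2 := Set.ncard_le_ncard h1 (Set.toFinite _)
    have h3 := Set.ncard_insert_le (1 : ↥(L u) ⧸ oddCore ↥(L u))
      {(QuotientGroup.mk ⟨u, humem⟩ : ↥(L u) ⧸ oddCore ↥(L u))}
    rw [Set.ncard_singleton] at h3
    have h4 : (center (↥(L u) ⧸ oddCore ↥(L u)) : Set (↥(L u) ⧸ oddCore ↥(L u))).ncard = 4 := by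
      rw [← hcard]; rfl
    omega
  have ht2 : t' * t' = 1 := hsq t' ht'c
  obtain ⟨⟨t₀, ht₀⟩, rfl⟩ := QuotientGroup.mk_surjective t'
  have hVN : V ≤ normalizer (core (L u) : Set G) := fun a ha =>
    normalizer_le_normalizer_core (L u) (hf a ha).1
  obtain ⟨o, ho, h4⟩ := Lifting.exists_commute_group (odd_card_core (L u)) hV hVN (m := t₀)
    (fun a ha => (fixes_iff_conj.mp (hf a ha)).2 t₀ ht₀)
  have h3 : t₀ * t₀ ∈ core (L u) := by
    have e : (QuotientGroup.mk ⟨t₀ * t₀, (L u).mul_mem ht₀ ht₀⟩ : ↥(L u) ⧸ oddCore ↥(L u)) = 1 := ht2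
    rwa [mk_eq_one_iff] at e
  have h5 : (t₀ * o) ^ 2 ^ 1 ∈ core (L u) := by
    have h6 := conj_mem_core (x := t₀) (le_normalizer ht₀) ho
    have h7 : (t₀ * o) ^ 2 ^ 1 = (t₀ * o * t₀⁻¹) * (t₀ * t₀) * o := by
      rw [pow_one, pow_two]; group
    rw [h7]
    exact mul_mem (mul_mem h6 h3) ho
  obtain ⟨k, h6, h7⟩ := Lifting.exists_two_part (odd_card_core (L u)) h5
  have hmem : t₀ * o ∈ L u := (L u).mul_mem ht₀ (core_le (L u) ho)
  have hk := (L u).pow_mem hmem k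
  have e : (QuotientGroup.mk ⟨(t₀ * o) ^ k, hk⟩ : ↥(L u) ⧸ oddCore ↥(L u)) = QuotientGroup.mk ⟨t₀, ht₀⟩ := by
    have h8 : (QuotientGroup.mk ⟨t₀ * o, hmem⟩ : ↥(L u) ⧸ oddCore ↥(L u)) =
        QuotientGroup.mk ⟨(t₀ * o) ^ k, hk⟩ := (mk_eq_mk_iff' hmem hk).mpr h7
    rw [← h8]
    symm
    rw [mk_eq_mk_iff', inv_mul_cancel_left]
    exact ho
  refine ⟨(t₀ * o) ^ k, hk, by rwa [pow_one, pow_two] at h6, ?_, ?_, ?_, fun a ha => ?_⟩
  · intro h8
    apply ht'1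
    rw [← e, mk_eq_one_iff, h8]
    exact one_mem _
  · intro h8
    apply ht'u
    rw [← e]
    congr 1
    exact Subtype.ext h8
  · rw [← W1.mk_center_iff hk, e]
    exact ht'c
  · exact ((show Commute a (t₀ * o) from h4 a ha).pow_right k).eq

/-- `exists_inv` -/
theorem exists_inv (h : SW κ D L) : ∀ u ∈ D, ∀ V : Subgroup G, IsPGroup 2 V →
    V ≤ cenMod (Ce u) (L u) → ∃ t ∈ L u, t ∈ D ∧ t ≠ u ∧ u * t ∈ D ∧ ∀ v ∈ V, Commute t v := by
  intro u hu V hV hle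
  obtain ⟨t, ht, h1, h2, h3, h4, h5⟩ := h.exists_vessel hu hV
    (fun a ha => ((h.mem_K hu).mp (hle ha)).2)
  have htu := h.comm hu ht
  refine ⟨t, ht, h.vess hu ht h1 h2 h4, h3, ?_, fun v hv => (h5 v hv).symm⟩
  exact h.vess hu ((L u).mul_mem (h.mem hu) ht) (mul_sq (h.sq hu) h1 htu.symm)
    (mul_ne_one h1 (Ne.symm h3)) (fixes_mul (h.fixes_self hu) h4)

/-- `cmp_fix` -/
theorem cmp_fix (h : SW κ D L) : ∀ u ∈ D, ∀ x ∈ cenMod (Ce u) (L u), orderOf x = 2 →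
    ∀ c ∈ pump x (L u), orderOf c = 2 → ∃ d ∈ D, d ∈ pump x (L u) ∧ Commute d c := by
  intro u hu x hx hx2 c hc hc2
  obtain ⟨h1, h2⟩ := (h.mem_K hu).mp hx
  have hxx := sq_of hx2
  have huM := mem_pump (h.pair hu) hxx h1 h2
  have hcc : c ^ 2 ^ 1 = 1 := by rw [pow_one, pow_two, sq_of hc2]
  rcases h.small_or_big hu hxx (ne_of hx2) h1 h2 with hs | hb
  · have hf := hs.fixes (h.pair hu) h1
    have h3 : (QuotientGroup.mk ⟨u, huM⟩ : ↥(pump x (L u)) ⧸ oddCore ↥(pump x (L u))) ∈ center _ :=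
      (W1.mk_center_iff huM).mpr hf
    obtain ⟨o, ho, hcom⟩ := exists_core_comm' hcc hc (h.sq hu) huM (mem_center_iff.mp h3 _).symm
    refine ⟨_, h.conj hu o, ?_, hcom⟩
    have hoM := Basic.core_le _ ho
    exact mul_mem (mul_mem hoM huM) (inv_mem hoM)
  · obtain ⟨huM', hT, hp⟩ := h.big_pair hu hxx h1 h2 hb
    obtain ⟨g, hg⟩ := h.hex.fix hT hp (MulAut.conj (QuotientGroup.mk ⟨c, hc⟩)) (by
      rw [← map_mul]
      have : (QuotientGroup.mk ⟨c, hc⟩ : ↥(pump x (L u)) ⧸ oddCore ↥(pump x (L u))) *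
          QuotientGroup.mk ⟨c, hc⟩ = 1 := W1.mk_sq hc (sq_of hc2)
      rw [this, map_one])
    obtain ⟨⟨g, hgM⟩, rfl⟩ := QuotientGroup.mk_surjective g
    have hyM : g * u * g⁻¹ ∈ pump x (L u) := mul_mem (mul_mem hgM huM) (inv_mem hgM)
    have h3 : (QuotientGroup.mk ⟨c, hc⟩ : ↥(pump x (L u)) ⧸ oddCore ↥(pump x (L u))) *
        QuotientGroup.mk ⟨g * u * g⁻¹, hyM⟩ * (QuotientGroup.mk ⟨c, hc⟩)⁻¹ =
        QuotientGroup.mk ⟨g * u * g⁻¹, hyM⟩ := hg
    have h4 : (QuotientGroup.mk ⟨g * u * g⁻¹, hyM⟩ : ↥(pump x (L u)) ⧸ oddCore ↥(pump x (L u))) *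
        QuotientGroup.mk ⟨c, hc⟩ = QuotientGroup.mk ⟨c, hc⟩ * QuotientGroup.mk ⟨g * u * g⁻¹, hyM⟩ := by
      rw [mul_inv_eq_iff_eq_mul] at h3
      exact h3.symm
    obtain ⟨o, ho, hcom⟩ := exists_core_comm' hcc hc (sq_cj (h.sq hu)) hyM h4
    refine ⟨_, h.conj (h.conj hu g) o, ?_, hcom⟩
    have hoM := Basic.core_le _ ho
    exact mul_mem (mul_mem hoM hyM) (inv_mem hoM)

end SW

end Cfsg.Agent.UGT.I34.HeP
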