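import Cfsg.Agent.UGT.I34.HeP.Se
import Cfsg.Agent.CoverCore.Abs

/-!
# I34 [C], supply of `FrameE`: the field `fix_or_swap`

* `Gam`: the component `Γ_z`; `stab`: its stabilizer.
* `SW.exists_can`: `u` has a type I partner.
* `SW.exists_top`: if `C(w) ≤ N` for all `w ∈ Γ_z` then the 2-component `M` of `N` above `L_u` (`u ∈ Γ_z`) is big.
* `SW.fix_or_swap`.
-/

set_option autoImplicit false
set_option linter.unusedSectionVars false
set_option linter.unusedVariables false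

open Cfsg Subgroup
open Cfsg.Agent.SignalizersComponents Cfsg.Agent.Lib
open Cfsg.Agent.SignalizersComponents.IntrinsicBasic
open Cfsg.Agent.SignalizersComponents.PLayerAut
open Cfsg.Agent.SignalizersComponents.RelSylow
open Cfsg.Agent.Intrinsic
open Cfsg.Agent.Intrinsic.Basic hiding IsPair PQS Target IsPair.sq IsPair.ne_one IsPair.cj
open Cfsg.Agent.Intrinsic.Cen hiding pair_comm pair_mem_cen exists_pump pump_unique
open Cfsg.Agent.Intrinsic.Quot hiding Big isPair_quot small_or_big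
open Cfsg.Agent.Intrinsic.WOneA (Ce OC)
open Cfsg.Agent.UGT.I34.Pair Cfsg.Agent.UGT.I34.WOne
open Cfsg.Agent.UGT.I34.Four (Sett Can HeT Klein)
open Cfsg.Agent.McLLyComp.Act hiding mk_eq_one_iff
open scoped commutatorElement

namespace Cfsg.Agent.UGT.I34.HeP

universe v

/-! ### the commuting graph -/

section graph

variable {G : Type v} [Group G] {D : Set G} {z w u t a b : G}

theorem gam_self (D : Set G) (z : G) : z ∈ Gam D z := Relation.ReflTransGen.refl

theorem gam_mem (hz : z ∈ D) (hw : w ∈ Gam D z) : w ∈ D := by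
  rcases Relation.ReflTransGen.cases_tail hw with e | ⟨c, -, h⟩
  · rw [e]; exact hz
  · exact h.2.1

theorem gam_step (hz : z ∈ D) (hw : w ∈ Gam D z) (ht : t ∈ D) (h : Commute w t) : t ∈ Gam D z :=
  Relation.ReflTransGen.tail hw ⟨gam_mem hz hw, ht, h⟩

theorem adj_symm (h : Adj D a b) : Adj D b a := ⟨h.2.1, h.1, h.2.2.symm⟩

theorem con_symm (h : Relation.ReflTransGen (Adj D) a b) : Relation.ReflTransGen (Adj D) b a := by
  induction h with
  | refl => exact Relation.ReflTransGen.refl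
  | tail _ hbc ih => exact Relation.ReflTransGen.head (adj_symm hbc) ih

theorem con_conj (hD : ∀ u ∈ D, ∀ g : G, g * u * g⁻¹ ∈ D) (g : G)
    (h : Relation.ReflTransGen (Adj D) a b) :
    Relation.ReflTransGen (Adj D) (g * a * g⁻¹) (g * b * g⁻¹) := by
  induction h with
  | refl => exact Relation.ReflTransGen.refl
  | tail _ hbc ih =>
    refine ih.tail ⟨hD _ hbc.1 g, hD _ hbc.2.1 g, ?_⟩
    exact (Commute.map hbc.2.2 (MulAut.conj g).toMonoidHom : _)

/-- the stabilizer of `Γ_z` -/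
def stab (hD : ∀ u ∈ D, ∀ g : G, g * u * g⁻¹ ∈ D) (z : G) : Subgroup G where
  carrier := {g | Relation.ReflTransGen (Adj D) z (g * z * g⁻¹)}
  one_mem' := by
    change Relation.ReflTransGen (Adj D) z (1 * z * 1⁻¹)
    rw [one_mul, inv_one, mul_one]
  mul_mem' := by
    intro g k hg hk
    change Relation.ReflTransGen (Adj D) z (g * k * z * (g * k)⁻¹)
    have h1 := con_conj hD g hk
    have e : g * (k * z * k⁻¹) * g⁻¹ = g * k * z * (g * k)⁻¹ := by group
    rw [e] at h1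
    exact Relation.ReflTransGen.trans hg h1
  inv_mem' := by
    intro g hg
    change Relation.ReflTransGen (Adj D) z (g⁻¹ * z * g⁻¹⁻¹)
    have h1 := con_conj hD g⁻¹ hg
    have e : g⁻¹ * (g * z * g⁻¹) * g⁻¹⁻¹ = z := by group
    rw [e] at h1
    exact con_symm h1

theorem stab_apply (hD : ∀ u ∈ D, ∀ g : G, g * u * g⁻¹ ∈ D) {g : G} (hg : g ∈ stab hD z)
    (hw : w ∈ Gam D z) : g * w * g⁻¹ ∈ Gam D z :=
  Relation.ReflTransGen.trans (show Relation.ReflTransGen (Adj D) z (g * z * g⁻¹) from hg) (con_conj hD g hw)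

theorem mem_stab_of_comm (hD : ∀ u ∈ D, ∀ g : G, g * u * g⁻¹ ∈ D) {g : G} (hw : w ∈ Gam D z)
    (h : g * w = w * g) : g ∈ stab hD z := by
  have h1 := con_conj hD g (con_symm hw)
  rw [h, mul_inv_cancel_right] at h1
  exact Relation.ReflTransGen.trans hw h1

/-- an odd subgroup normalized by a four-group of elements of `Γ_z` stabilizes `Γ_z` -/
theorem odd_le_stab [Finite G] (hD : ∀ u ∈ D, ∀ g : G, g * u * g⁻¹ ∈ D) {P : Subgroup G}
    (hP : Odd (Nat.card P)) (hu : u ∈ Gam D z) (ht : t ∈ Gam D z) (hut : u * t ∈ Gam D z)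
    (huu : u * u = 1) (htt : t * t = 1) (hu1 : u ≠ 1) (ht1 : t ≠ 1) (hne : u ≠ t)
    (hcom : u * t = t * u) (hun : u ∈ normalizer (P : Set G)) (htn : t ∈ normalizer (P : Set G)) :
    P ≤ stab hD z := by
  refine Cfsg.Agent.CoverCore.Abs.le_of_four huu htt hcom hu1 ht1 hne hP
    (fun x hx => (mem_normalizer_iff.mp hun x).mp hx) (fun x hx => (mem_normalizer_iff.mp htn x).mp hx)
    ?_ ?_ ?_
  · exact fun x _ h => mem_stab_of_comm hD hu h
  · exact fun x _ h => mem_stab_of_comm hD ht h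
  · exact fun x _ h => mem_stab_of_comm hD hut h

end graph

/-! ### involutions swapped modulo an odd subgroup -/

theorem exists_sq_odd {n : ℕ} (hn : Odd n) : ∃ i : ℕ, 8 * i + 1 = n * n := by
  obtain ⟨k, rfl⟩ := hn
  obtain ⟨l, hl⟩ := (Nat.even_mul_succ_self k)
  refine ⟨l, ?_⟩
  have : (2 * k + 1) * (2 * k + 1) = 4 * (k * (k + 1)) + 1 := by ring
  rw [this, hl]
  ring

/-- If `z` and `z^b` commute modulo the odd subgroup `P` then some conjugate `t` of `z` under `P` commutes with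
`t^b`. -/
theorem exists_comm_swap {G : Type*} [Group G] [Finite G] {P : Subgroup G} (hP : Odd (Nat.card P))
    {z b : G} (hz : z * z = 1) (hb : b * b = 1)
    (hm : z * (b * z * b⁻¹) * (z * (b * z * b⁻¹)) ∈ P) :
    ∃ p ∈ P, Commute (p * z * p⁻¹) (b * (p * z * p⁻¹) * b⁻¹) := by
  have hbi : b⁻¹ = b := inv_eq_of_mul_eq_one_left hb
  have hzi : z⁻¹ = z := inv_eq_of_mul_eq_one_left hz
  obtain ⟨w, hw⟩ : ∃ w, w = b * z * b⁻¹ := ⟨_, rfl⟩
  have hww : w * w = 1 := by rw [hw]; exact sq_cj' hz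
  have hwi : w⁻¹ = w := inv_eq_of_mul_eq_one_left hww
  obtain ⟨m, hmdef⟩ : ∃ m, m = z * w := ⟨_, rfl⟩
  rw [← hw, ← hmdef] at hm
  -- `z` and `b` invert `m`
  have hzm : z * m * z⁻¹ = m⁻¹ := by
    rw [hmdef, mul_inv_rev, hwi, hzi]
    calc z * (z * w) * z = (z * z) * w * z := by group
      _ = w * z := by rw [hz, one_mul]
  have hbw : b * w * b⁻¹ = z := by
    rw [hw, hbi]
    calc b * (b * z * b) * b = (b * b) * z * (b * b) := by group
      _ = z := by rw [hb, one_mul, mul_one]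
  have hbm : b * m * b⁻¹ = m⁻¹ := by
    have e : b * m * b⁻¹ = (b * z * b⁻¹) * (b * w * b⁻¹) := by rw [hmdef]; group
    rw [e, hbw, ← hw, hmdef, mul_inv_rev, hwi, hzi]
  obtain ⟨i, hi⟩ := exists_sq_odd (n := orderOf (m * m)) (by
    refine Odd.of_dvd_nat hP ?_
    exact Subgroup.orderOf_dvd_natCard P hm)
  obtain ⟨p, hp⟩ : ∃ p, p = m ^ (2 * i) := ⟨_, rfl⟩
  have hpP : p ∈ P := by
    rw [hp, pow_mul, pow_two]
    exact P.pow_mem hm i
  have hzp : z * p * z⁻¹ = p⁻¹ := by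
    rw [hp, ← conj_pow, hzm, inv_pow]
  have hbp : b * p * b⁻¹ = p⁻¹ := by
    rw [hp, ← conj_pow, hbm, inv_pow]
  -- `t = p z p⁻¹ = p p z`
  have ht : p * z * p⁻¹ = p * p * z := by
    have e : z * p⁻¹ * z⁻¹ = p := by
      have := congrArg (·⁻¹) hzp
      simp only [mul_inv_rev, inv_inv] at this
      rw [mul_assoc]; exact this
    calc p * z * p⁻¹ = p * (z * p⁻¹ * z⁻¹) * z := by group
      _ = p * p * z := by rw [e]
  have ht' : b * (p * z * p⁻¹) * b⁻¹ = p⁻¹ * w * p := by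
    calc b * (p * z * p⁻¹) * b⁻¹ = (b * p * b⁻¹) * (b * z * b⁻¹) * (b * p * b⁻¹)⁻¹ := by group
      _ = p⁻¹ * w * p := by rw [hbp, ← hw, inv_inv]
  have hwp : p⁻¹ * w * p = w * p * p := by
    have hpm : p * m = m * p := by rw [hp, ← pow_succ, ← pow_succ']
    have e : w * p * w⁻¹ = p⁻¹ := by
      have e1 : w = z⁻¹ * m := by rw [hmdef]; group
      calc w * p * w⁻¹ = z⁻¹ * (m * p) * m⁻¹ * z := by rw [e1]; group
        _ = z⁻¹ * (p * m) * m⁻¹ * z := by rw [hpm]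
        _ = z⁻¹ * p * z := by group
        _ = z * p * z⁻¹ := by rw [hzi]
        _ = p⁻¹ := hzp
    calc p⁻¹ * w * p = (w * p * w⁻¹) * w * p := by rw [e]
      _ = w * p * p := by group
  refine ⟨p, hpP, ?_⟩
  have htt : p * z * p⁻¹ * (p * z * p⁻¹) = 1 := sq_cj' hz
  have ht2 : b * (p * z * p⁻¹) * b⁻¹ * (b * (p * z * p⁻¹) * b⁻¹) = 1 := sq_cj' htt
  -- the product is `m ^ (8 i + 1)`
  have hpm : p * m = m * p := by rw [hp, ← pow_succ, ← pow_succ']
  have hprod : p * z * p⁻¹ * (b * (p * z * p⁻¹) * b⁻¹) = m ^ (8 * i + 1) := by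
    rw [ht', hwp, ht]
    calc p * p * z * (w * p * p) = p * p * (z * w) * p * p := by group
      _ = p * p * m * p * p := by rw [← hmdef]
      _ = p * p * (m * p) * p := by group
      _ = p * p * (p * m) * p := by rw [hpm]
      _ = p * p * p * (m * p) := by group
      _ = p * p * p * (p * m) := by rw [hpm]
      _ = m ^ (8 * i + 1) := by
        rw [hp, pow_succ, show 8 * i = 2 * i + 2 * i + 2 * i + 2 * i by ring, pow_add, pow_add, pow_add]
        group
  have hpsq : (p * z * p⁻¹ * (b * (p * z * p⁻¹) * b⁻¹)) * (p * z * p⁻¹ * (b * (p * z * p⁻¹) * b⁻¹)) = 1 := by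
    rw [hprod, ← mul_pow_of_self, hi, pow_mul, pow_orderOf_eq_one, one_pow]
  have e1 : (p * z * p⁻¹)⁻¹ = p * z * p⁻¹ := inv_eq_of_mul_eq_one_left htt
  have e2 : (b * (p * z * p⁻¹) * b⁻¹)⁻¹ = b * (p * z * p⁻¹) * b⁻¹ := inv_eq_of_mul_eq_one_left ht2
  have e3 := inv_eq_of_mul_eq_one_left hpsq
  rw [mul_inv_rev, e1, e2] at e3
  exact e3.symm
where
  sq_cj' {g y : G} (hy : y * y = 1) : g * y * g⁻¹ * (g * y * g⁻¹) = 1 := by
    rw [show g * y * g⁻¹ * (g * y * g⁻¹) = g * (y * y) * g⁻¹ by group, hy]; group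
  mul_pow_of_self {m : G} {k : ℕ} : (m * m) ^ k = m ^ k * m ^ k :=
    (Commute.refl m).mul_pow k

/-! ### the 2-components of `N` -/

section top

variable {G : Type v} [Group G] [Finite G] {κ : Kind.{v}} {D : Set G} {L : G → Subgroup G}
  {u t x s a b z : G} {N M : Subgroup G}

namespace SW

/-- `u` has a type I partner `t`. -/
theorem exists_can (h : SW κ D L) (hu : u ∈ D) :
    ∃ t ∈ L u, t ∈ D ∧ u ∈ L t ∧ ¬ Fixes t (L u) := by
  obtain ⟨t', ht'⟩ := h.sett.kl.exCan (h.pair hu).kind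
  obtain ⟨⟨t₀, ht₀⟩, rfl⟩ := QuotientGroup.mk_surjective t'
  have h3 : t₀ ^ 2 ^ 1 ∈ core (L u) := by
    have e : (QuotientGroup.mk ⟨t₀ * t₀, (L u).mul_mem ht₀ ht₀⟩ : ↥(L u) ⧸ oddCore ↥(L u)) = 1 :=
      ht'.1.1
    rw [mk_eq_one_iff] at e
    rwa [pow_one, pow_two]
  obtain ⟨k, h6, h7⟩ := Lifting.exists_two_part (odd_card_core (L u)) h3
  have hk := (L u).pow_mem ht₀ k
  have e : (QuotientGroup.mk ⟨t₀ ^ k, hk⟩ : ↥(L u) ⧸ oddCore ↥(L u)) = QuotientGroup.mk ⟨t₀, ht₀⟩ :=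
    ((mk_eq_mk_iff' ht₀ hk).mpr h7).symm
  have hsq : t₀ ^ k * t₀ ^ k = 1 := by rwa [pow_one, pow_two] at h6
  obtain ⟨h8, h9⟩ := h.can hu hk hsq (by rw [e]; exact ht')
  refine ⟨t₀ ^ k, hk, h8, h9, fun hf => ?_⟩
  have h10 := (W1.mk_center_iff hk).mpr hf
  rw [e] at h10
  exact ht'.1.2 h10

/-- `L u` is a 2-component of `N ∩ C(u)` if `C(u) ≤ N`. -/
theorem comp_inf (h : SW κ D L) (hu : u ∈ D) (hN : Ce u ≤ N) :
    IsComp (N ⊓ centralizer ({u} : Set G)) (L u) := by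
  rw [inf_eq_right.mpr hN]
  exact h.comp hu

/-- **the 2-component of `N` above `L u` is big** -/
theorem exists_top (h : SW κ D L) (hz : z ∈ D) (hNt : N ≠ ⊤) (hN : ∀ u ∈ Gam D z, Ce u ≤ N)
    (hu : u ∈ Gam D z) : ∃ M, IsComp N M ∧ L u ≤ M ∧ ∃ huM : u ∈ M,
      κ.T (↥M ⧸ oddCore ↥M) (QuotientGroup.mk ⟨u, huM⟩) (qs M (L u)) ∧
      IsPair κ (QuotientGroup.mk ⟨u, huM⟩ : ↥M ⧸ oddCore ↥M) (qs M (L u)) := by
  have huD := gam_mem hz hu
  obtain ⟨t, htL, htD, hut, hnf⟩ := h.exists_can huD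
  have htu := h.comm huD htL
  have htG : t ∈ Gam D z := gam_step hz hu htD htu.symm
  have hJu := h.comp_inf huD (hN u hu)
  have hJt := h.comp_inf htD (hN t htG)
  obtain ⟨M, hM, hle⟩ := exists_pumpup (h.sq huD) (h.mem huD) hJu
  obtain ⟨M', hM', hle'⟩ := exists_pumpup (h.sq htD) (h.mem htD) hJt
  have htn : t ∈ normalizer (L u : Set G) := le_normalizer htL
  have hMM : M = M' := by
    by_contra hne
    exact hnf (WOne.fixes_of_le hle htn (hM.fixes_of_mem hM' hne (hle' (h.mem htD))))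
  subst hMM
  have huM := hle (h.mem huD)
  have hcard : Nat.card M < Nat.card G := by
    have h1 : M ≠ ⊤ := fun e => hNt (top_le_iff.mp (e ▸ hM.le))
    rcases (Subgroup.card_le_card_group M).lt_or_eq with h2 | h2
    · exact h2
    · exact absurd (Subgroup.eq_top_of_card_eq M h2) h1
  refine ⟨M, hM, hle, huM, ?_⟩
  have hp := isPair_quot (h.sq huD) (h.ne_one huD) (h.mem huD) huM (isComp_inf hJu hM hle)
    (h.pair huD).kind
  refine ⟨?_, hp⟩
  rcases Pair.small_or_big h.sett.ih (h.pair huD).inv (h.mem huD) hJu (h.pair huD).kind hM hle hcard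
    with hs | ⟨_, hb⟩
  · exfalso
    have hf : Fixes u M := Small.fixes hs (h.mem huD) (h.comp huD).le
    have h1 := WOne.fixes_of_le hle' (le_normalizer hut) hf
    exact hnf (h.symm htD huD htu h1)
  · exact hb

/-- odd subgroups normalized by the vessel of `u ∈ Γ_z` stabilize `Γ_z` -/
theorem odd_le_stab (h : SW κ D L) (hz : z ∈ D) (hu : u ∈ Gam D z) {P : Subgroup G}
    (hP : Odd (Nat.card P)) (hn : L u ≤ normalizer (P : Set G)) :
    P ≤ stab (fun _ hu g => h.conj hu g) z := by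
  have huD := gam_mem hz hu
  obtain ⟨t, ht, htD, htu, hutD, -⟩ := h.exists_inv u huD ⊥ IsPGroup.of_bot bot_le
  have hc := h.comm huD ht
  have htt := h.sq htD
  refine HeP.odd_le_stab _ hP hu (gam_step hz hu htD hc.symm) (gam_step hz hu hutD ?_) (h.sq huD)
    htt (h.ne_one huD) (h.ne_one htD) (Ne.symm htu) hc.symm (hn (h.mem huD)) (hn ht)
  exact (Commute.refl u).mul_right hc.symm

/-- the field `fix_or_swap` -/
theorem fix_or_swap (h : SW κ D L) : ∀ z ∈ D, ∀ N : Subgroup G, N ≠ ⊤ →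
    (∀ u ∈ Gam D z, Ce u ≤ N) → ∀ b ∈ N, orderOf b = 2 →
    (∃ d ∈ Gam D z, Commute d b) ∨ ∃ t ∈ Gam D z, ZP D L t (b * t * b⁻¹) := by
  intro z hz N hNt hN b hb hbo
  have hzG := gam_self D z
  obtain ⟨M, hM, hle, hzM, hT, hp⟩ := h.exists_top hz hNt hN hzG
  have hbb := sq_of hbo
  have hzz := h.sq hz
  by_cases hmove : cj b M = M
  · -- `b` normalizes `M`
    left
    have hbM : b ∈ normalizer (M : Set G) := mem_normalizer_iff_cj.mpr hmove
    obtain ⟨g, hg⟩ := h.hex.fix hT hp (act M ⟨b, hbM⟩) (by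
      rw [← map_mul]
      have : (⟨b, hbM⟩ : ↥(normalizer (M : Set G))) * ⟨b, hbM⟩ = 1 := Subtype.ext hbb
      rw [this, map_one])
    obtain ⟨⟨g, hgM⟩, rfl⟩ := QuotientGroup.mk_surjective g
    have hyM : g * z * g⁻¹ ∈ M := M.mul_mem (M.mul_mem hgM hzM) (M.inv_mem hgM)
    have h3 : (QuotientGroup.mk ⟨b * (g * z * g⁻¹) * b⁻¹, conj_mem hbM hyM⟩ : ↥M ⧸ oddCore ↥M) =
        QuotientGroup.mk ⟨g * z * g⁻¹, hyM⟩ := hg
    have h4 := (mk_eq_mk_iff' hyM (conj_mem hbM hyM)).mp h3.symm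
    obtain ⟨o, ho, hcom⟩ := exists_core_comm (n := 1) (by rw [pow_one, pow_two, hbb]) hbM
      (sq_cj hzz) (le_normalizer hyM) h4
    have hoM := Basic.core_le M ho
    have hcS : core M ≤ stab (fun _ hu g => h.conj hu g) z :=
      h.odd_le_stab hz hzG (odd_card_core M) (hle.trans (le_normalizer_core M))
    have hall := conn_big h.hex hzz hT hp (Gam D z) hzG
      (fun t ht g hg hc => gam_step hz ht (h.conj hz g) hc)
      (fun t ht o ho => stab_apply _ (hcS ho) ht)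
    refine ⟨_, stab_apply _ (hcS ho) (hall g hgM), hcom⟩
  · -- `b` moves `M`
    right
    have hMb : IsComp N (cj b M) := by
      have h1 := hM.cj b
      rwa [cj_eq_self_of_mem hb] at h1
    have hwM : b * z * b⁻¹ ∈ cj b M := conj_mem_cj hzM
    have hm : z * (b * z * b⁻¹) * (z * (b * z * b⁻¹)) ∈ core N := by
      have h1 := hMb.fixes_of_mem hM hmove hzM
      have h2 := hMb.core_le_core (h1.2 _ hwM)
      have hw2 : (b * z * b⁻¹)⁻¹ = b * z * b⁻¹ := inv_eq_of_mul_eq_one_left (sq_cj hzz)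
      have hz2 : z⁻¹ = z := inv_eq_of_mul_eq_one_left hzz
      have e : ⁅z, b * z * b⁻¹⁆ = z * (b * z * b⁻¹) * (z * (b * z * b⁻¹)) := by
        rw [commutatorElement_def, hw2, hz2]; group
      rwa [e] at h2
    obtain ⟨p, hpN, hcom⟩ := exists_comm_swap (odd_card_core N) hzz hbb hm
    have hcN : core N ≤ stab (fun _ hu g => h.conj hu g) z := by
      refine h.odd_le_stab hz hzG (odd_card_core N) ?_
      exact (hle.trans hM.le).trans (le_normalizer_core N)
    obtain ⟨t, ht⟩ : ∃ t, t = p * z * p⁻¹ := ⟨_, rfl⟩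
    have htG : t ∈ Gam D z := by rw [ht]; exact stab_apply _ (hcN hpN) hzG
    have htD := gam_mem hz htG
    rw [← ht] at hcom
    have hpM : cj p M = M := mem_normalizer_iff_cj.mp (hM.core_le_normalizer hpN)
    have hLt : L t ≤ M := by
      rw [ht, h.L_conj hz, ← hpM]
      exact cj_mono hle
    have htM : t ∈ M := hLt (h.mem htD)
    have ht'D := h.conj htD b
    have ht'M : b * t * b⁻¹ ∈ cj b M := conj_mem_cj htM
    have hf : Fixes (b * t * b⁻¹) M := hM.fixes_of_mem hMb (Ne.symm hmove) ht'M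
    refine ⟨t, htG, htD, ht'D, ?_, ?_⟩
    · rw [h.mem_K htD]
      refine ⟨hcom.symm.eq, WOne.fixes_of_le hLt (h.norm htD hcom.symm.eq) hf⟩
    · intro hmem
      have h1 := hLt hmem
      have h2 := (W1.mk_center_iff h1).mpr hf
      rw [h.sett.he.center hT hp, mem_bot] at h2
      exact W1.mk_ne_one h1 (h.sq ht'D) (h.ne_one ht'D) h2

end SW

end top

end Cfsg.Agent.UGT.I34.HeP
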