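import Cfsg.Agent.UGT.I34.HeP.Diag
import Cfsg.Agent.UGT.I34.HeP.FixSwap

/-!
# I34 [C]: the record `FrameE` from `SW` and the fields which use (5.2)-(5.5)
-/

set_option autoImplicit false
set_option linter.unusedSectionVars false
set_option linter.unusedVariables false

open Cfsg Subgroup
open Cfsg.Agent.SignalizersComponents Cfsg.Agent.Lib
open Cfsg.Agent.SignalizersComponents.IntrinsicBasic
open Cfsg.Agent.SignalizersComponents.PLayerAut
open Cfsg.Agent.SignalizersComponents.RelSylow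
open Cfsg.Agent.Intrinsic
open Cfsg.Agent.Intrinsic.Basic hiding IsPair PQS Target IsPair.sq IsPair.ne_one IsPair.cj
open Cfsg.Agent.Intrinsic.WOneA (Ce OC)
open Cfsg.Agent.UGT.I34.Pair Cfsg.Agent.UGT.I34.WOne

namespace Cfsg.Agent.UGT.I34.HeP

universe v

variable {G : Type v} [Group G] [Finite G] {κ : Kind.{v}}

/-- The fields of `FrameE` which use (5.2)-(5.5), for `cmp x u = pump x (L u)`. -/
structure Rest (κ : Kind.{v}) {G : Type v} [Group G] [Finite G] (D : Set G) (L : G → Subgroup G) : Prop where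
  mem_symm : ∀ u ∈ D, ∀ t ∈ D, t ∈ L u → u ∈ L t
  exZ : ∀ u ∈ D, ∃ s, ZP D L u s
  /-- (5.5) -/
  isBig : ∀ u s : G, ZP D L u s → IsBig κ u (L u) s
  common : ∀ u ∈ D, ∀ v ∈ D, u ≠ v → Commute u v → ZP D L u v ∨ ∃ s, ZP D L u s ∧ ZP D L v s
  memC : ∀ u s : G, ZP D L u s → ∀ v ∈ D, Commute v u → Commute v s → v ∉ L u →
    v ∉ cenMod (Ce u) (L u) → ZP D L v s ∧ v ∈ pump s (L u)
  cen5 : ∀ u s : G, ZP D L u s → ∀ j : G, ZP D L u j → Commute s j →
    j ∈ cenMod (Ce s) (pump s (L u))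
  bal : ∀ u s : G, ZP D L u s → ∀ x ∈ OC u, Commute x s → x ∈ OC s

/-- the record `FrameE` -/
noncomputable def SW.frameE {D : Set G} {L : G → Subgroup G} (h : SW κ D L) (r : Rest κ D L) :
    FrameE G where
  D := D
  L := L
  cmp := fun x u => pump x (L u)
  ord := h.ord
  conj := fun _ hu g => h.conj hu g
  L_conj := fun _ hu g => h.L_conj hu g
  L_comp := h.L_comp
  self_mem := fun _ hu => h.mem hu
  mem_symm := r.mem_symm
  symm := h.symm'
  exZ := r.exZ
  prod := fun _ _ hZ => h.prod hZ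
  exists_inv := h.exists_inv
  cmp_comp := h.cmp_comp
  cmp_self := h.cmp_self
  cmp_conj := h.cmp_conj
  mem_cmp := h.mem_cmp
  of_cmp := h.of_cmp
  big := by
    intro u s hZ t ht htM
    obtain ⟨h1, h2⟩ := (h.mem_K hZ.left).mp hZ.mem
    exact h.cls hZ.left (h.sq hZ.right) (h.ne_one hZ.right) h1 h2 (r.isBig u s hZ) ht htM
  common := r.common
  memC := r.memC
  cen5 := r.cen5
  bal := r.bal
  se := h.se
  cmp_fix := h.cmp_fix
  diag := h.diag
  fix_or_swap := h.fix_or_swap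

theorem SW.frameE_D {D : Set G} {L : G → Subgroup G} (h : SW κ D L) (r : Rest κ D L) :
    (h.frameE r).D = D := rfl

end Cfsg.Agent.UGT.I34.HeP
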