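import Cfsg.Agent.UGT.I34.HeP.OfWorld
import Cfsg.Agent.UGT.I34.FiveC.Supply

/-!
# THEOREM I34, part [C]: the record `Five` from the world of (5.2)-(5.5)

`fiveOf`, and `false_of_zero'`: pairs of type (0) outside vessels do not exist, from K-facts only.
-/

set_option autoImplicit false

open Cfsg Subgroup
open Cfsg.Agent.SignalizersComponents Cfsg.Agent.Lib
open Cfsg.Agent.SignalizersComponents.IntrinsicBasic
open Cfsg.Agent.SignalizersComponents.PLayerAut
open Cfsg.Agent.Intrinsic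
open Cfsg.Agent.Intrinsic.Basic hiding IsPair PQS Target IsPair.sq IsPair.ne_one IsPair.cj
open Cfsg.Agent.Intrinsic.Cen hiding pair_comm pair_mem_cen exists_pump pump_unique
open Cfsg.Agent.Intrinsic.Quot hiding Big isPair_quot small_or_big mk_eq_one_iff
open Cfsg.Agent.Intrinsic.WOneA (Ce OC Asch)
open Cfsg.Agent.McLLyComp.Act
open Cfsg.Agent.UGT.I34.Pair Cfsg.Agent.UGT.I34.KAut Cfsg.Agent.UGT.I34.WOne
open Cfsg.Agent.UGT.I34.Four (Sett Can HeT Klein TypeF FG Over World HeOut ExP can_conj_of)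
open Cfsg.Agent.UGT.I34.FiveC (W5 KI5 HeTwo HeF HeFEx KFu)

namespace Cfsg.Agent.UGT.I34.HeP

universe v

variable {κ : Kind.{v}} {G : Type v} [Group G] [Finite G]

/-- the world of (5.2)-(5.5) -/
theorem w5Of (W : World κ G) (hp : ExP κ G) (hk : KI5 κ) (hc : CanConj κ) : W5 κ G where
  w := W
  k := hk
  conj := hc
  ex := fun hu => hp hu

/-- **the record `Five`** -/
theorem fiveOf (h : W5 κ G) (A : Bal.AutL κ) (F : HeF κ) (F₂ : HeTwo κ) : Five κ G where
  prod := fun hZ => FiveC.prod_ZP h pair_LL hZ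
  isBig := FiveC.isBig_ZP h pair_LL
  big_can := by
    intro u hu t ht htL hnf x hxx _ hxu hxt hf hb
    exact (FiveC.of_isBig h (FiveC.TI.of_mem h.w (pair_LL hu) (pair_LL ht) htL hnf) hxx hxu hxt hf hb).1
  cls := FiveC.cls_ZP h pair_LL F₂
  memC := FiveC.memC_ZP h pair_LL A F
  cen5 := FiveC.cen5_ZP h pair_LL A

/-- **pairs of type (0) outside vessels do not exist** -/
theorem false_of_zero' [IsSimpleGroup G] (FT : Intrinsic.Functor.OddSol G) (hA : Asch G) (W : World κ G)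
    (hp : ExP κ G) (hk : KI5 κ) (hX : HeX κ) (hs : Solv κ) (hc : CanConj κ) (hO : HeOut κ)
    (hL : Bal.AutL κ) (F : HeF κ) (F₂ : HeTwo κ) {u s : G} {X Y : Subgroup G} (hu : IsPair κ u X)
    (hsY : IsPair κ s Y) (hus : u * s = s * u) (hf : Fixes s X) (hn : s ∉ X) : False :=
  false_of_zero FT hA W hp hX hs hc hO hL (fiveOf (w5Of W hp hk hc) hL F F₂) hu hsY hus hf hn

end Cfsg.Agent.UGT.I34.HeP
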