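import Cfsg.Agent.UGT.I34.HeP.OfWorld
import Cfsg.Agent.UGT.I34.KIOf
import Cfsg.Agent.UGT.I34.FourNZOf

/-!
# I34 [C]: the K-facts `Solv` and `CanConj` of `HeP/OfWorld.lean`
-/

set_option autoImplicit false

open Cfsg Subgroup
open Cfsg.Agent.UGT.I34.Pair Cfsg.Agent.UGT.I34.Four

namespace Cfsg.Agent.UGT.I34.HeP

universe v

/-- `C(t)` is a 2-group for noncentral involutions `t` of `2².L₃(4)`. -/
theorem solv {κ : Kind.{v}} (hκ : ∀ {K : Type v} [Group K] [Finite K], κ.P K → Cov.Klein.KleinKind K) :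
    Solv κ := by
  intro K _ _ hK t ht htc A hA hperf
  have hcard := (KIOf.ki κ hκ hK).card (t := t) ⟨ht, htc⟩
  have hAle : A ≤ centralizer ({t} : Set K) := fun a ha => mem_centralizer_singleton_iff.mpr (hA a ha)
  have : Fact (Nat.Prime 2) := ⟨Nat.prime_two⟩
  have h2 : IsPGroup 2 ↥(centralizer ({t} : Set K)) := IsPGroup.of_card (n := 8) (by rw [hcard]; norm_num)
  have h3 : IsPGroup 2 ↥A := h2.to_le hAle
  have h4 : Group.IsNilpotent ↥A := h3.isNilpotent
  have h5 : Group.IsSolvable ↥A := inferInstance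
  have h6 : commutator ↥A = ⊤ := by
    have h7 : (commutator ↥A).map A.subtype = A := by
      rw [_root_.commutator_def, map_commutator, ← MonoidHom.range_eq_map, range_subtype, hperf]
    apply map_injective A.subtype_injective
    rw [h7, ← MonoidHom.range_eq_map, range_subtype]
  by_contra hne
  have hnt : Nontrivial ↥A := (nontrivial_iff_ne_bot A).mpr hne
  exact (Group.IsSolvable.commutator_lt_top_of_nontrivial ↥A).ne h6

/-- the canonical involutions are conjugate -/
theorem canConj {κ : Kind.{v}} (hκ : ∀ {K : Type v} [Group K] [Finite K], κ.P K → Cov.Klein.KleinKind K) :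
    CanConj κ := by
  intro K _ _ hK s t hs ht
  exact can_conj_of (hκ hK).dat hs ht

end Cfsg.Agent.UGT.I34.HeP
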