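import Cfsg.Agent.UGT.I34.HeP.OfSW
import Cfsg.Agent.UGT.I34.HeP.Bal
import Cfsg.Agent.UGT.I34.FourGF

/-!
# THEOREM I34, part [C]: closure of `{u ∈ D | u has a partner of type (0)}` under commuting elements of `D`

`Clo κ D L`: `SW κ D L` together with the outputs of (5.2)-(5.5) and of the analysis of type `f` used here.

* `Clo.no_swap`: `v ∈ D`, `s ⊥ s^v` is impossible;
* `Clo.close`: `u ⊥ s₀`, `v ∈ D` commutes with `u` and is not of type (0): some `s` is of type (0) with `u` and `v`.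
-/

set_option autoImplicit false
set_option linter.unusedSectionVars false

open Cfsg Subgroup
open Cfsg.Agent.SignalizersComponents Cfsg.Agent.Lib
open Cfsg.Agent.SignalizersComponents.IntrinsicBasic
open Cfsg.Agent.SignalizersComponents.PLayerAut
open Cfsg.Agent.SignalizersComponents.RelSylow
open Cfsg.Agent.Intrinsic
open Cfsg.Agent.Intrinsic.Basic hiding IsPair PQS Target IsPair.sq IsPair.ne_one IsPair.cj
open Cfsg.Agent.Intrinsic.Cen hiding pair_comm pair_mem_cen exists_pump pump_unique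
open Cfsg.Agent.Intrinsic.Quot hiding Big isPair_quot small_or_big mk_eq_one_iff
open Cfsg.Agent.Intrinsic.WOneA (Ce OC)
open Cfsg.Agent.McLLyComp.Act
open Cfsg.Agent.UGT.I34.Pair Cfsg.Agent.UGT.I34.KAut Cfsg.Agent.UGT.I34.WOne
open Cfsg.Agent.UGT.I34.Four (Sett Can HeT Klein TypeF FG Over)
open scoped commutatorElement

namespace Cfsg.Agent.UGT.I34.HeP

universe v

/-- What the closure uses. -/
structure Clo (κ : Kind.{v}) {G : Type v} [Group G] [Finite G] (D : Set G) (L : G → Subgroup G) : Prop where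
  sw : SW κ D L
  mem_symm : ∀ u ∈ D, ∀ t ∈ D, t ∈ L u → u ∈ L t
  /-- (5.5) -/
  isBig : ∀ u s : G, ZP D L u s → IsBig κ u (L u) s
  /-- (5.3) -/
  big_can : ∀ u ∈ D, ∀ t ∈ D, t ∈ L u → ¬ Fixes t (L u) → ∀ x : G, x * x = 1 → x ≠ 1 → x * u = u * x →
    x * t = t * x → Fixes x (L u) → IsBig κ u (L u) x → Fixes x (L t)
  /-- type `f` -/
  typeF : ∀ u ∈ D, ∀ v ∈ D, u * v = v * u → ¬ Fixes v (L u) → v ∉ L u →
    ∃ (hv : v ∈ normalizer (L u : Set G)) (hu : u ∈ normalizer (L v : Set G))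
      (J : Subgroup (↥(L u) ⧸ oddCore ↥(L u))) (J' : Subgroup (↥(L v) ⧸ oddCore ↥(L v))) (C : Subgroup G),
      TypeF (act (L u) ⟨v, hv⟩) J ∧ TypeF (act (L v) ⟨u, hu⟩) J' ∧ Over u v (L u) C J ∧ Over v u (L v) C J'

namespace Clo

variable {G : Type v} [Group G] [Finite G] {κ : Kind.{v}} {D : Set G} {L : G → Subgroup G}
  {u v t x s s₀ a b g w : G}

theorem symmZ (h : Clo κ D L) (hZ : ZP D L u s) : ZP D L s u :=
  ⟨hZ.right, hZ.left, h.sw.symm' u hZ.left s hZ.right hZ.mem,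
    fun h1 => hZ.nmem (h.mem_symm s hZ.right u hZ.left h1)⟩

theorem comm (h : Clo κ D L) (hZ : ZP D L u s) : s * u = u * s := ((h.sw.mem_K hZ.left).mp hZ.mem).1

theorem fixes (h : Clo κ D L) (hZ : ZP D L u s) : Fixes s (L u) := ((h.sw.mem_K hZ.left).mp hZ.mem).2

theorem mkZ (h : Clo κ D L) (hu : u ∈ D) (hs : s ∈ D) (hc : s * u = u * s) (hf : Fixes s (L u)) (hn : s ∉ L u) :
    ZP D L u s := ⟨hu, hs, (h.sw.mem_K hu).mpr ⟨hc, hf⟩, hn⟩

theorem conjZ (h : Clo κ D L) (hZ : ZP D L u s) (g : G) : ZP D L (g * u * g⁻¹) (g * s * g⁻¹) := by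
  refine h.mkZ (h.sw.conj hZ.left g) (h.sw.conj hZ.right g) ?_ ?_ ?_
  · calc g * s * g⁻¹ * (g * u * g⁻¹) = g * (s * u) * g⁻¹ := by group
      _ = g * (u * s) * g⁻¹ := by rw [h.comm hZ]
      _ = _ := by group
  · rw [h.sw.L_conj hZ.left]
    exact (h.fixes hZ).cj g
  · rw [h.sw.L_conj hZ.left]
    intro h1
    apply hZ.nmem
    rw [mem_cj] at h1
    have e : g⁻¹ * (g * s * g⁻¹) * g = s := by group
    rwa [e] at h1

theorem conjZ' (h : Clo κ D L) (hZ : ZP D L u s) {g : G} (hg : g * u = u * g) : ZP D L u (g * s * g⁻¹) := by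
  have h1 := h.conjZ hZ g
  rwa [hg, mul_inv_cancel_right] at h1

/-! ### the big 2-component `B = M_u(L_s)` of `C(u)` -/

section B

variable (h : Clo κ D L) (hZ : ZP D L u s)
include h hZ

theorem comp_B : IsComp (centralizer ({u} : Set G)) (pump u (L s)) :=
  pump_comp (h.sw.pair hZ.right) (h.sw.sq hZ.left) (h.comm hZ).symm (h.fixes (h.symmZ hZ))

theorem mem_B : s ∈ pump u (L s) :=
  mem_pump (h.sw.pair hZ.right) (h.sw.sq hZ.left) (h.comm hZ).symm (h.fixes (h.symmZ hZ))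

theorem B_ne : pump u (L s) ≠ L u := fun e => hZ.nmem (by rw [← e]; exact h.mem_B hZ)

theorem B_conj (hg : g * u = u * g) : pump u (L (g * s * g⁻¹)) = cj g (pump u (L s)) := by
  have h1 := cj_pump (h.sw.pair hZ.right) (h.sw.sq hZ.left) (h.comm hZ).symm (h.fixes (h.symmZ hZ)) g
  rwa [hg, mul_inv_cancel_right, ← h.sw.L_conj hZ.right] at h1

/-- central involutions of `B / O(B)` do not exist -/
theorem not_fixes_B (ha : a ∈ pump u (L s)) (haa : a * a = 1) (ha1 : a ≠ 1) : ¬ Fixes a (pump u (L s)) := by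
  intro hf
  obtain ⟨huM, hT, hp⟩ := h.sw.big_pair hZ.right (h.sw.sq hZ.left) (h.comm hZ).symm (h.fixes (h.symmZ hZ))
    (h.isBig s u (h.symmZ hZ))
  have h2 := (W1.mk_center_iff ha).mpr hf
  rw [h.sw.sett.he.center hT hp, mem_bot] at h2
  exact W1.mk_ne_one ha haa ha1 h2

end B

/-- **no swap** -/
theorem no_swap (h : Clo κ D L) (hv : v ∈ D) (hZ : ZP D L s (v * s * v⁻¹)) : False := by
  have hvv := h.sw.sq hv
  have hvi : v⁻¹ = v := inv_eq_of_mul_eq_one_left hvv
  obtain ⟨R, hR, hcR, hcL⟩ := h.sw.diag v (h.sw.pair hv).inv s hZ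
  obtain ⟨s', hs'⟩ : ∃ s', s' = v * s * v⁻¹ := ⟨_, rfl⟩
  obtain ⟨c, hc⟩ : ∃ c, c = s * s' := ⟨_, rfl⟩
  rw [← hs'] at hZ hcR hcL
  rw [← hc] at hcR hcL
  have hss := h.sw.sq hZ.left
  have hss' := h.sw.sq hZ.right
  have hcomm := h.comm hZ
  have hne : s ≠ s' := fun e => hZ.nmem (by rw [← e]; exact h.sw.mem hZ.left)
  have hcc : c * c = 1 := by
    rw [hc]
    calc s * s' * (s * s') = s * (s' * s) * s' := by group
      _ = (s * s) * (s' * s') := by rw [hcomm]; group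
      _ = 1 := by rw [hss, hss', one_mul]
  have hc1 : c ≠ 1 := by
    intro e
    apply hne
    have h1 : s = s'⁻¹ := mul_eq_one_iff_eq_inv.mp (hc ▸ e)
    rwa [inv_eq_of_mul_eq_one_left hss'] at h1
  have hvs' : v * s' * v⁻¹ = s := by
    rw [hs', hvi]
    calc v * (v * s * v) * v = (v * v) * s * (v * v) := by group
      _ = s := by rw [hvv, one_mul, mul_one]
  have hvc : v * c * v⁻¹ = c := by
    have e : v * c * v⁻¹ = (v * s * v⁻¹) * (v * s' * v⁻¹) := by rw [hc]; group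
    rw [e, hvs', ← hs', hcomm, hc]
  have hvc' : v * c = c * v := mul_inv_eq_iff_eq_mul.mp hvc
  -- `c` fixes `L v`
  have hcv : Fixes c (L v) := by
    have hne : L v ≠ R := fun e => hcL hv (by rw [e]; exact hcR)
    exact (h.sw.comp hv).fixes_of_mem (IsComp.of_tc hR) hne hcR
  -- `c` fixes `L s`
  have hcs : Fixes c (L s) := hc ▸ fixes_mul (h.sw.fixes_self hZ.left) (h.fixes hZ)
  have hcs' : c * s = s * c := by
    rw [hc, mul_assoc, hcomm]
  have hM := pump_comp (h.sw.pair hZ.left) hcc hcs' hcs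
  have hX := pump_comp (h.sw.pair hv) hcc hvc'.symm hcv
  have hvX := mem_pump (h.sw.pair hv) hcc hvc'.symm hcv
  have hvN : v ∈ normalizer (pump c (L s) : Set G) := by
    by_cases e : pump c (L s) = pump c (L v)
    · rw [e]; exact le_normalizer hvX
    · exact (hM.fixes_of_mem hX e hvX).1
  have h1 := cj_pump (h.sw.pair hZ.left) hcc hcs' hcs v
  rw [hvc, ← h.sw.L_conj hZ.left, ← hs', mem_normalizer_iff_cj.mp hvN] at h1
  have h2 : s' ∈ pump c (L s) := by
    rw [← h1]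
    refine mem_pump (h.sw.pair hZ.right) hcc ?_ ?_
    · rw [hc, mul_assoc, hss', mul_one, ← mul_assoc, hcomm, mul_assoc, hss', mul_one]
    · rw [hc]
      exact fixes_mul (h.fixes (h.symmZ hZ)) (h.sw.fixes_self hZ.right)
  exact hZ.nmem (h.sw.of_cmp s hZ.left c ((h.sw.mem_K hZ.left).mpr ⟨hcs', hcs⟩) (order_two hcc hc1) s' h2
    (h.sw.pair hZ.right).inv hZ.mem)

/-! ### vessels -/

/-- `w ∈ L v` a central involution: `a` fixes `L w` iff it fixes `L v` -/
theorem ves_iff (h : Clo κ D L) (hv : v ∈ D) (hw : w ∈ L v) (hww : w * w = 1) (hw1 : w ≠ 1)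
    (hf : Fixes w (L v)) (haw : a * w = w * a) (ha : a ∈ normalizer (L v : Set G)) :
    Fixes a (L w) ↔ Fixes a (L v) := by
  obtain ⟨M, hM, -, -, -, -, hfix⟩ := h.sw.sett.vess (h.sw.pair hv) hw hww hw1 hf
  rw [← h.sw.one (h.sw.vess hv hw hww hw1 hf) hM]
  exact hfix a haw ha

/-- `pump w (L v) = L w` for a central involution `w` of `L v` -/
theorem pump_ves (h : Clo κ D L) (hv : v ∈ D) (hw : w ∈ L v) (hww : w * w = 1) (hw1 : w ≠ 1)
    (hf : Fixes w (L v)) : pump w (L v) = L w := by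
  obtain ⟨M, hM, -, hle, -, -, -⟩ := h.sw.sett.vess (h.sw.pair hv) hw hww hw1 hf
  rw [← h.sw.one (h.sw.vess hv hw hww hw1 hf) hM]
  exact pump_eq (h.sw.pair hv) hww (pair_comm (h.sw.pair hv) hw) hf hM.comp hle

/-! ### type `f` twice -/

/-- a 2-component `C ≤ L u` of `C(u) ∩ C(v)` is normalized by the elements `s` commuting with `u`, `v` and fixing
`L u` -/
theorem normalizes_over (h : Clo κ D L) (hu : u ∈ D) {C : Subgroup G}
    (hC : IsComp (centralizer ({u} : Set G) ⊓ centralizer ({v} : Set G)) C) (hCL : C ≤ L u)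
    (hcore : core C ≤ core (L u)) (hsu : s * u = u * s) (hsv : s * v = v * s) (hf : Fixes s (L u)) :
    s ∈ normalizer (C : Set G) := by
  rw [mem_normalizer_iff_cj]
  by_contra hne
  have hsH : s ∈ centralizer ({u} : Set G) ⊓ centralizer ({v} : Set G) :=
    ⟨mem_centralizer_singleton_iff.mpr hsu, mem_centralizer_singleton_iff.mpr hsv⟩
  have hC' : IsComp (centralizer ({u} : Set G) ⊓ centralizer ({v} : Set G)) (cj s C) := by
    have h1 := hC.cj s
    rwa [cj_eq_self_of_mem hsH] at h1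
  have key : ∀ c ∈ C, ∀ d ∈ C, ⁅c, d⁆ ∈ core C := by
    intro c hc d hd
    refine WOne.inf_core_le (hCL.trans le_normalizer) ⟨?_, ?_⟩
    · rw [commutatorElement_def]
      exact C.mul_mem (C.mul_mem (C.mul_mem hc hd) (C.inv_mem hc)) (C.inv_mem hd)
    · -- `c = (s c s⁻¹) o`
      obtain ⟨a, ha⟩ : ∃ a, a = s * c * s⁻¹ := ⟨_, rfl⟩
      have h1 : Fixes a C := ha ▸ hC.fixes_of_mem hC' (Ne.symm hne) (conj_mem_cj hc)
      have h2 : ⁅a, d⁆ ∈ core (L u) := hcore (h1.2 d hd)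
      have h3 : c⁻¹ * a ∈ core (L u) := ha ▸ (fixes_iff_conj.mp hf).2 c (hCL hc)
      have haL : a ∈ L u := ha ▸ conj_mem hf.1 (hCL hc)
      obtain ⟨o, ho⟩ : ∃ o, o = c⁻¹ * a := ⟨_, rfl⟩
      rw [← ho] at h3
      have hco : c = a * o⁻¹ := by rw [ho]; group
      have e : ⁅c, d⁆ = a * (o⁻¹ * (d * o * d⁻¹)) * a⁻¹ * ⁅a, d⁆ := by
        rw [commutatorElement_def, commutatorElement_def, hco]; group
      rw [e]
      refine mul_mem (conj_mem_core (le_normalizer haL) (mul_mem (inv_mem h3) ?_)) h2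
      exact conj_mem_core (le_normalizer (hCL hd)) h3
  refine hC.not_odd (odd_card_core C) ?_
  rw [← hC.perfect, commutator_le]
  intro c hc d hd
  rw [hC.perfect]
  exact key c hc d hd

/-- the elements of `J` are images of elements of `cen C s` -/
theorem surj_cen {p q r : G} {X C : Subgroup G} {J : Subgroup (↥X ⧸ oddCore ↥X)} (hO : Over p q X C J)
    (hs : cen C r ⊔ core C = C) {x : ↥X ⧸ oddCore ↥X} (hx : x ∈ J) :
    ∃ e ∈ cen C r, ∃ he : e ∈ X, (QuotientGroup.mk ⟨e, he⟩ : ↥X ⧸ oddCore ↥X) = x := by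
  obtain ⟨a, haC, haX, rfl⟩ := hO.surj x hx
  obtain ⟨e, he, hea⟩ := exists_mul_of_sup hs haC
  refine ⟨e, he, hO.le (cen_le _ _ he), ?_⟩
  exact (mk_eq_iff _ haX).mpr (hO.core hea)

/-- `J` is perfect -/
theorem over_perfect {p q : G} {X C : Subgroup G} {J : Subgroup (↥X ⧸ oddCore ↥X)} (hO : Over p q X C J) :
    ⁅J, J⁆ = J := by
  have h1 : J = (C.subgroupOf X).map (QuotientGroup.mk' (oddCore ↥X)) := by
    ext x
    constructor
    · intro hx
      obtain ⟨a, haC, haX, rfl⟩ := hO.surj x hx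
      exact ⟨⟨a, haX⟩, haC, rfl⟩
    · rintro ⟨⟨a, haX⟩, haC, rfl⟩
      obtain ⟨h1, h2⟩ := hO.map a haC
      exact h2
  rw [h1, ← map_commutator]
  congr 1
  apply map_injective X.subtype_injective
  rw [map_commutator, subgroupOf_map_subtype, inf_of_le_left hO.le, hO.comp.perfect]

/-- `u ⊥ s` and `v` of type `f` for both of them is impossible -/
theorem not_ff (h : Clo κ D L) (hZ : ZP D L u s) (hv : v ∈ D) (huv : u * v = v * u) (hsv : s * v = v * s)
    (h1 : ¬ Fixes v (L u)) (h2 : v ∉ L u) (h3 : ¬ Fixes v (L s)) (h4 : v ∉ L s) : False := by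
  obtain ⟨-, hnu, J1, J1', C1, -, T1', O1, O1'⟩ := h.typeF u hZ.left v hv huv h1 h2
  obtain ⟨-, hns, J2, J2', C2, -, T2', O2, O2'⟩ := h.typeF s hZ.right v hv hsv h3 h4
  have hss := h.sw.sq hZ.right
  have huu := h.sw.sq hZ.left
  have hsu := h.comm hZ
  have hfs := h.fixes hZ
  have hfu := h.fixes (h.symmZ hZ)
  have hC1 := h.normalizes_over hZ.left O1.comp O1.le O1.core hsu hsv hfs
  have hC2 := h.normalizes_over hZ.right O2.comp O2.le O2.core hsu.symm huv hfu
  have hf1 : Fixes s C1 := WOne.fixes_of_le O1.le hC1 hfs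
  have hf2 : Fixes u C2 := WOne.fixes_of_le O2.le hC2 hfu
  obtain ⟨hE1, hs1⟩ := isComp_cen O1.comp (v := s)
    ⟨mem_centralizer_singleton_iff.mpr hsu, mem_centralizer_singleton_iff.mpr hsv⟩ hss hf1
  obtain ⟨hE2, hs2⟩ := isComp_cen O2.comp (v := u)
    ⟨mem_centralizer_singleton_iff.mpr hsu.symm, mem_centralizer_singleton_iff.mpr huv⟩ huu hf2
  have hcore2 : core (cen C2 u) = cen C2 u ⊓ core C2 := core_cen O2.comp
    ⟨mem_centralizer_singleton_iff.mpr hsu.symm, mem_centralizer_singleton_iff.mpr huv⟩ huu hf2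
  have hH : centralizer ({s} : Set G) ⊓ centralizer ({v} : Set G) ⊓ centralizer ({u} : Set G) =
      centralizer ({u} : Set G) ⊓ centralizer ({v} : Set G) ⊓ centralizer ({s} : Set G) := by
    ext y
    simp only [mem_inf]
    tauto
  rw [hH] at hE2
  have hne : cen C2 u ≠ cen C1 s := by
    intro e
    have h5 : cen C1 s ≤ pump s (L u) := hE1.le_of_two fun k hk n hn =>
      mem_pump_of_mem (h.sw.pair hZ.left) hss hsu hfs (O1.le (cen_le _ _ hk)) (comm_of_mem_cen hk) hn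
    have h6 : cen C1 s ≤ L s := by rw [← e]; exact (cen_le _ _).trans O2.le
    have h7 := hE1.unique (h.comp_B (h.symmZ hZ)) (h.sw.comp hZ.right) h5 h6
    exact h.B_ne (h.symmZ hZ) h7
  -- the perfect group of inner automorphisms
  obtain ⟨φ, hφ⟩ : ∃ φ, φ = act (L v) ⟨s, hns⟩ := ⟨_, rfl⟩
  have h5 : (J1'.map (MulAut.conj : _ →* MulAut (↥(L v) ⧸ oddCore ↥(L v)))) = ⊥ := by
    refine T2'.cent _ ?_ ?_ ?_ ?_
    · rintro _ ⟨x, -, rfl⟩
      exact ⟨x, rfl⟩
    · rw [← map_commutator, over_perfect O1']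
    · rintro _ ⟨x, hx, rfl⟩
      obtain ⟨e, he, heL, rfl⟩ := surj_cen O1' hs1 hx
      apply MulEquiv.ext
      intro y
      rw [MulAut.mul_apply, MulAut.mul_apply, MulAut.conj_apply, MulAut.conj_apply, map_mul, map_mul, map_inv]
      have e1 : act (L v) ⟨s, hns⟩ (QuotientGroup.mk ⟨e, heL⟩) = QuotientGroup.mk ⟨e, heL⟩ := by
        rw [act_mk hns heL]
        congr 1
        apply Subtype.ext
        change s * e * s⁻¹ = e
        rw [← comm_of_mem_cen he, mul_inv_cancel_right]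
      rw [e1]
    · rintro _ ⟨x, hx, rfl⟩ j hj
      obtain ⟨e1, he1, heL1, rfl⟩ := surj_cen O1' hs1 hx
      obtain ⟨e2, he2, heL2, rfl⟩ := surj_cen O2' hs2 hj
      have h6 := (fixes_iff_conj.mp (hE2.fixes_of_mem hE1 hne he1)).2 e2 he2
      rw [hcore2] at h6
      have h7 := O2'.core h6.2
      rw [MulAut.conj_apply]
      exact ((mk_eq_iff heL2 ((L v).mul_mem ((L v).mul_mem heL1 heL2) ((L v).inv_mem heL1))).mpr h7).symm
  obtain ⟨w, hw, hww, hw1, -⟩ := T1'.inv
  have h6 : MulAut.conj w ∈ J1'.map (MulAut.conj : _ →* MulAut (↥(L v) ⧸ oddCore ↥(L v))) := ⟨w, hw, rfl⟩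
  rw [h5, mem_bot] at h6
  refine (T1'.noncan w hw hww hw1).1.2 ?_
  rw [mem_center_iff]
  intro y
  have h7 := DFunLike.congr_fun h6 y
  rw [MulAut.conj_apply, MulAut.one_apply, mul_inv_eq_iff_eq_mul] at h7
  exact h7.symm

/-! ### closure -/

/-- **closure**: an element `v` of `D` commuting with `u`, where `u ⊥ s₀` -/
theorem close (h : Clo κ D L) (hZ : ZP D L u s₀) (hv : v ∈ D) (huv : u * v = v * u) (hnZ : ¬ ZP D L u v) :
    ∃ s, ZP D L u s ∧ ZP D L v s := by
  have hB := h.comp_B hZ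
  have hsB := h.mem_B hZ
  have hvv := h.sw.sq hv
  have hv1 := h.sw.ne_one hv
  have hvC : v ∈ centralizer ({u} : Set G) := mem_centralizer_singleton_iff.mpr huv.symm
  have hBu : ∀ o ∈ pump u (L s₀), o * u = u * o := fun o ho => mem_centralizer_singleton_iff.mp (hB.le ho)
  by_cases hvL : v ∈ L u
  · have hfB : Fixes v (pump u (L s₀)) := hB.fixes_of_mem (h.sw.comp hZ.left) (h.B_ne hZ) hvL
    obtain ⟨o, ho, hcom⟩ := exists_core_comm (n := 1) (by rw [pow_one, pow_two, hvv]) hfB.1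
      (h.sw.sq hZ.right) (le_normalizer hsB) ((fixes_iff_conj.mp hfB).2 s₀ hsB)
    have hZs := h.conjZ' hZ (hBu o (Basic.core_le _ ho))
    obtain ⟨s, hs⟩ : ∃ s, s = o * s₀ * o⁻¹ := ⟨_, rfl⟩
    rw [← hs] at hcom hZs
    refine ⟨s, hZs, ?_⟩
    have hss := h.sw.sq hZs.right
    have hs1 := h.sw.ne_one hZs.right
    have hsu := h.comm hZs
    have hfs := h.fixes hZs
    by_cases hf : Fixes v (L u)
    · refine h.mkZ hv hZs.right hcom.eq
        ((h.ves_iff hZs.left hvL hvv hv1 hf hcom.eq (h.sw.norm hZs.left hsu)).mpr hfs) fun hsv => ?_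
      rw [← h.pump_ves hZs.left hvL hvv hv1 hf] at hsv
      exact hZs.nmem (h.sw.of_cmp u hZs.left v ((h.sw.mem_K hZs.left).mpr ⟨huv.symm, hf⟩)
        (h.sw.pair hv).inv s hsv (h.sw.pair hZs.right).inv hZs.mem)
    · have hfv := h.big_can u hZs.left v hv hvL hf s hss hs1 hsu hcom.eq hfs (h.isBig u s hZs)
      refine h.mkZ hv hZs.right hcom.eq hfv fun hsv => hf ?_
      have h5 := (h.ves_iff hv hsv hss hs1 hfv hsu.symm (h.sw.norm hv huv)).mp (h.fixes (h.symmZ hZs))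
      exact h.sw.symm hv hZs.left huv.symm h5
  · have hf : ¬ Fixes v (L u) := fun h5 => hnZ (h.mkZ hZ.left hv huv.symm h5 hvL)
    by_cases hmove : cj v (pump u (L s₀)) = pump u (L s₀)
    · have hvN : v ∈ normalizer (pump u (L s₀) : Set G) := mem_normalizer_iff_cj.mpr hmove
      obtain ⟨huM, hT, hp⟩ := h.sw.big_pair hZ.right (h.sw.sq hZ.left) (h.comm hZ).symm
        (h.fixes (h.symmZ hZ)) (h.isBig s₀ u (h.symmZ hZ))
      obtain ⟨g, hg⟩ := h.sw.hex.fix hT hp (act (pump u (L s₀)) ⟨v, hvN⟩) (by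
        rw [← map_mul]
        have : (⟨v, hvN⟩ : ↥(normalizer (pump u (L s₀) : Set G))) * ⟨v, hvN⟩ = 1 := Subtype.ext hvv
        rw [this, map_one])
      obtain ⟨⟨g, hgM⟩, rfl⟩ := QuotientGroup.mk_surjective g
      have hyM : g * s₀ * g⁻¹ ∈ pump u (L s₀) := mul_mem (mul_mem hgM hsB) (inv_mem hgM)
      have h3 : (QuotientGroup.mk ⟨v * (g * s₀ * g⁻¹) * v⁻¹, conj_mem hvN hyM⟩ :
          ↥(pump u (L s₀)) ⧸ oddCore ↥(pump u (L s₀))) = QuotientGroup.mk ⟨g * s₀ * g⁻¹, hyM⟩ := hg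
      have h4 := (mk_eq_iff hyM (conj_mem hvN hyM)).mp h3.symm
      obtain ⟨o, ho, hcom⟩ := exists_core_comm (n := 1) (by rw [pow_one, pow_two, hvv]) hvN
        (sq_cj (h.sw.sq hZ.right)) (le_normalizer hyM) h4
      have hZs := h.conjZ' (h.conjZ' hZ (hBu g hgM)) (hBu o (Basic.core_le _ ho))
      obtain ⟨s, hs⟩ : ∃ s, s = o * (g * s₀ * g⁻¹) * o⁻¹ := ⟨_, rfl⟩
      rw [← hs] at hcom hZs
      refine ⟨s, hZs, ?_⟩
      have hss := h.sw.sq hZs.right
      have hs1 := h.sw.ne_one hZs.right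
      have hsu := h.comm hZs
      have hfus := h.fixes (h.symmZ hZs)
      have hnf : ¬ Fixes u (L v) := fun h5 => hf (h.sw.symm hv hZs.left huv.symm h5)
      have hsv : s ∉ L v := by
        intro hsv
        by_cases hfv : Fixes s (L v)
        · exact hnf ((h.ves_iff hv hsv hss hs1 hfv hsu.symm (h.sw.norm hv huv)).mp hfus)
        · have hvs := h.mem_symm v hv s hZs.right hsv
          have hfvs : ¬ Fixes v (L s) := fun h5 => hfv (h.sw.symm hZs.right hv hcom.eq h5)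
          exact hnf (h.big_can s hZs.right v hv hvs hfvs u (h.sw.sq hZs.left) (h.sw.ne_one hZs.left)
            hsu.symm huv hfus (h.isBig s u (h.symmZ hZs)))
      by_cases hfv : Fixes s (L v)
      · exact h.mkZ hv hZs.right hcom.eq hfv hsv
      · exfalso
        refine h.not_ff hZs hv huv hcom.eq hf hvL (fun h5 => hfv (h.sw.symm hZs.right hv hcom.eq h5)) ?_
        exact fun h5 => hsv (h.mem_symm s hZs.right v hv h5)
    · exfalso
      have hB' : IsComp (centralizer ({u} : Set G)) (cj v (pump u (L s₀))) := by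
        have h5 := hB.cj v
        rwa [cj_eq_self_of_mem hvC] at h5
      have hss₀ := h.sw.sq hZ.right
      have hm : s₀ * (v * s₀ * v⁻¹) * (s₀ * (v * s₀ * v⁻¹)) ∈ core (centralizer ({u} : Set G)) := by
        have h5 := hB'.fixes_of_mem hB hmove hsB
        have h6 := hB'.core_le_core (h5.2 _ (conj_mem_cj hsB))
        have hw2 : (v * s₀ * v⁻¹)⁻¹ = v * s₀ * v⁻¹ := inv_eq_of_mul_eq_one_left (sq_cj hss₀)
        have hz2 : s₀⁻¹ = s₀ := inv_eq_of_mul_eq_one_left hss₀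
        have e : ⁅s₀, v * s₀ * v⁻¹⁆ = s₀ * (v * s₀ * v⁻¹) * (s₀ * (v * s₀ * v⁻¹)) := by
          rw [commutatorElement_def, hw2, hz2]; group
        rwa [e] at h6
      obtain ⟨p, hp, hcom⟩ := exists_comm_swap (odd_card_core _) hss₀ hvv hm
      have hpu : p * u = u * p := mem_centralizer_singleton_iff.mp (Basic.core_le _ hp)
      have hZs := h.conjZ' hZ hpu
      have hBp := h.B_conj hZ hpu
      rw [mem_normalizer_iff_cj.mp (hB.core_le_normalizer hp)] at hBp
      obtain ⟨s, hs⟩ : ∃ s, s = p * s₀ * p⁻¹ := ⟨_, rfl⟩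
      rw [← hs] at hcom hZs hBp
      have hsB' := h.mem_B hZs
      have hs'D := h.sw.conj hZs.right v
      obtain ⟨s', hs'⟩ : ∃ s', s' = v * s * v⁻¹ := ⟨_, rfl⟩
      have hs'B : s' ∈ cj v (pump u (L s₀)) := by
        rw [hs', ← hBp]
        exact conj_mem_cj hsB'
      have hfB : Fixes s' (pump u (L s)) := by
        rw [hBp]
        exact hB.fixes_of_mem hB' (Ne.symm hmove) hs'B
      rw [← hs'] at hcom hs'D
      have hs'u : s' * u = u * s' := mem_centralizer_singleton_iff.mp (hB'.le hs'B)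
      have hfus := h.fixes (h.symmZ hZs)
      have huu := h.sw.sq hZ.left
      have hf' : Fixes s' (L s) := fixes_of_pump (h.sw.pair hZs.right) huu (h.comm hZs).symm hfus
        (h.sw.norm hZs.right hcom.symm.eq) hs'u hfB
      refine h.no_swap hv (s := s) ?_
      rw [← hs']
      refine h.mkZ hZs.right hs'D hcom.symm.eq hf' fun hmem => ?_
      have h7 := mem_pump_of_mem (h.sw.pair hZs.right) huu (h.comm hZs).symm hfus hmem hs'u (k := 1)
        (by rw [pow_one, pow_two, h.sw.sq hs'D])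
      exact h.not_fixes_B hZs h7 (h.sw.sq hs'D) (h.sw.ne_one hs'D) hfB

end Clo

end Cfsg.Agent.UGT.I34.HeP
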