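import Cfsg.Agent.UGT.I34.HeP.Functor
import Cfsg.Agent.Intrinsic.Basic

/-!
No component of the commuting graph on `D` is `G`-invariant (5b.2 in a `FrameE`).

* `Inv F Γ`: `Γ ⊆ D` is `G`-invariant and closed under commuting elements of `D`.
* `FrameE.stab_ne_top`: `stab z ≠ ⊤` for `z ∈ D` in a simple group.
-/

set_option autoImplicit false
set_option linter.unusedSectionVars false

namespace Cfsg.Agent.UGT.I34.HeP

open Subgroup Cfsg
open Cfsg.Agent.SignalizersComponents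
open Cfsg.Agent.SignalizersComponents.PLayerAut
open Cfsg.Agent.SignalizersComponents.IntrinsicBasic
open Cfsg.Agent.SignalizersComponents.RelSylow
open scoped commutatorElement
open Cfsg.Agent.Intrinsic.WOneA (Ce OC mem_Ce mul_self_of_order ne_one_of_order order_two
  inv_eq_of_order pow_of_order orderOf_cj conj_eq_of_commute commute_of_conj_eq normalizes
  card_cj commute_of_ne)
open Cfsg.Agent.Intrinsic (Basic.IsComp.of_tc Basic.core)
open Cfsg.Agent.Intrinsic

section general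

variable {G : Type*} [Group G] [Finite G]

/-- a component is generated by the conjugates of a noncentral element -/
theorem le_of_conj {X K N : Subgroup G} (hK : TC X K) (hO : relCore 2 X = ⊥) {z k : G}
    (hz : z ∈ K) (hk : k ∈ K) (hc : ¬ Commute k z)
    (hN : ∀ g ∈ K, g * z * g⁻¹ ∈ N) : K ≤ N := by
  obtain ⟨S, hS⟩ : ∃ S, S = closure {t : G | ∃ g ∈ K, g * z * g⁻¹ = t} := ⟨_, rfl⟩
  have hSN : S ≤ N := by
    rw [hS, closure_le]
    rintro t ⟨g, hg, rfl⟩
    exact hN g hg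
  have hSK : S ≤ K := by
    rw [hS, closure_le]
    rintro t ⟨g, hg, rfl⟩
    exact K.mul_mem (K.mul_mem hg hz) (K.inv_mem hg)
  have hKn : K ≤ normalizer (S : Set G) := by
    have hsub : ∀ g ∈ K, cj g S ≤ S := by
      intro g hg
      have e : cj g S = closure ((MulAut.conj g).toMonoidHom ''
          {t : G | ∃ g ∈ K, g * z * g⁻¹ = t}) := by
        rw [cj_def, hS, MonoidHom.map_closure]
      rw [e, closure_le]
      rintro _ ⟨t, ⟨r, hr, rfl⟩, rfl⟩
      rw [hS]
      refine subset_closure ⟨g * r, K.mul_mem hg hr, ?_⟩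
      change g * r * z * (g * r)⁻¹ = g * (r * z * r⁻¹) * g⁻¹
      group
    intro g hg
    rw [mem_normalizer_iff_cj]
    exact Subgroup.eq_of_le_of_card_ge (hsub g hg) (card_cj g _).ge
  have hKK : Basic.IsComp K K := Basic.IsComp.of_tc (Charac.restrict hK hK.le le_rfl)
  have hnorm : (S.subgroupOf K).Normal := normal_subgroupOf_of_le_normalizer hKn
  rcases hKK.le_or_comm hSK hnorm.isSubnormal with h | h
  · exact h.trans hSN
  · exfalso
    have hcore : Basic.core K = ⊥ := by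
      rw [eq_bot_iff, ← hO]
      exact (Basic.IsComp.of_tc hK).core_le_core
    rw [hcore] at h
    have hzS : z ∈ S := hS ▸ subset_closure ⟨1, K.one_mem, by group⟩
    have h1 := h (commutator_mem_commutator hk hzS)
    rw [mem_bot, commutatorElement_eq_one_iff_mul_comm] at h1
    exact hc h1

end general

namespace FrameE

variable {G : Type*} [Group G] [Finite G] {F : FrameE G} {Γ : Set G}

variable (F) in
/-- a `G`-invariant union of components of the commuting graph -/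
structure Inv (Γ : Set G) : Prop where
  sub : ∀ u ∈ Γ, u ∈ F.D
  adj : ∀ u ∈ Γ, ∀ v ∈ F.D, Commute u v → v ∈ Γ
  conj : ∀ u ∈ Γ, ∀ g : G, g * u * g⁻¹ ∈ Γ

theorem Inv.z (I : F.Inv Γ) {u s : G} (hu : u ∈ Γ) (h : F.Z u s) : s ∈ Γ :=
  I.adj u hu s h.right h.comm

theorem pgroup_zpowers {x : G} (h : orderOf x = 2) : IsPGroup 2 (zpowers x) := by
  apply IsPGroup.of_card (n := 1)
  rw [Nat.card_zpowers, h]; norm_num

theorem Z.tc {z s : G} (h : F.Z z s) : TC (Ce s) (F.cmp s z) :=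
  F.cmp_comp z h.left s h.mem (F.ord s h.right)

theorem Z.exists_noncentral {z s : G} (h : F.Z z s) : ∃ k ∈ F.cmp s z, ¬ Commute k z := by
  have hs2 := F.ord s h.right
  obtain ⟨t, ht, htD, htz, -, htc⟩ := F.exists_inv z h.left (zpowers s) (pgroup_zpowers hs2)
    ((zpowers_le).mpr h.mem)
  have hts : Commute t s := htc s (mem_zpowers s)
  obtain ⟨g, hg, hgt⟩ := F.big z s h t htD (h.mem_cmp ht (pow_of_order (F.ord t htD)) hts)
  refine ⟨g, hg, fun hc => htz ?_⟩
  rw [← hgt, conj_eq_of_commute hc]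

/-- the big component is generated by its elements in `D` -/
theorem Z.cmp_le (I : F.Inv Γ) (hO : ∀ u ∈ Γ, OC u = ⊥) {z s : G} (hz : z ∈ Γ) (h : F.Z z s)
    {N : Subgroup G} (hN : ∀ t ∈ F.D, t ∈ F.cmp s z → t ∈ N) : F.cmp s z ≤ N := by
  obtain ⟨k, hk, hc⟩ := h.exists_noncentral
  have hzc := F.self_mem_cmp h.left h.mem (F.ord s h.right)
  refine le_of_conj h.tc (hO s (I.z hz h)) hzc hk hc fun g hg => ?_
  exact hN _ (F.conj z h.left g) (mul_mem (mul_mem hg hzc) (inv_mem hg))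

theorem Z.centralizes (I : F.Inv Γ) (hO : ∀ u ∈ Γ, OC u = ⊥) {z s s' : G} (hz : z ∈ Γ)
    (h : F.Z z s) (h' : F.Z z s') (hc : Commute s s') {m : G} (hm : m ∈ F.cmp s z) :
    Commute m s' := by
  have h1 := ((mem_cenMod h.tc.le).mp (F.cen5 z s h s' h' hc)).2 m hm
  have h2 : m⁻¹ * (s' * m * s'⁻¹) = 1 := by
    have h3 : m⁻¹ * (s' * m * s'⁻¹) ∈ OC s := h1
    rwa [hO s (I.z hz h), mem_bot] at h3
  exact (commute_of_conj_eq (inv_mul_eq_one.mp h2).symm).symm

theorem conj_trivial {x : G} (hx : OC x = ⊥) {S : Set G} : ∀ t ∈ S, ∀ o ∈ OC x, o * t * o⁻¹ ∈ S := by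
  intro t ht o ho
  rw [hx, mem_bot] at ho
  subst ho
  rwa [one_mul, inv_one, mul_one]

theorem Z.cmp_le_of_comm (I : F.Inv Γ) (hO : ∀ u ∈ Γ, OC u = ⊥) {z s s' : G} (hz : z ∈ Γ)
    (h : F.Z z s) (h' : F.Z z s') (hc : Commute s s') : F.cmp s z ≤ F.cmp s' z := by
  apply h.cmp_le I hO hz
  have hs2 := F.ord s h.right
  have key := F.se z h.left s h.mem hs2
    {t | t ∈ F.D ∧ t ∈ F.cmp s z ∧ t ∈ F.cmp s' z}
    ⟨h.left, F.self_mem_cmp h.left h.mem hs2,
      F.self_mem_cmp h.left h'.mem (F.ord s' h'.right)⟩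
  intro t htD ht
  refine (key ?_ (conj_trivial (hO s (I.z hz h))) t htD ht).2.2
  rintro t ⟨htD, ht, ht'⟩ r hrD hr htr
  refine ⟨hrD, hr, ?_⟩
  obtain ⟨h1, h2⟩ := h.of_mem_cmp htD ht
  obtain ⟨h1', h2'⟩ := h'.of_mem_cmp htD ht'
  have hrs' : Commute r s' := h.centralizes I hO hz h' hc hr
  rw [← h2']
  by_cases hz' : F.Z t r
  · exfalso
    apply hz'.nmem
    exact F.of_cmp t h1.left s h1.mem hs2 r (by rw [h2]; exact hr) (F.ord r hrD) hz'.mem
  · exact h1'.mem_cmp_of_not hrD hz' htr.symm hrs'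

theorem Z.cmp_eq_of_comm (I : F.Inv Γ) (hO : ∀ u ∈ Γ, OC u = ⊥) {z s s' : G} (hz : z ∈ Γ)
    (h : F.Z z s) (h' : F.Z z s') (hc : Commute s s') : F.cmp s z = F.cmp s' z :=
  le_antisymm (h.cmp_le_of_comm I hO hz h' hc) (h'.cmp_le_of_comm I hO hz h hc.symm)

theorem Z.cmp_eq (I : F.Inv Γ) (hO : ∀ u ∈ Γ, OC u = ⊥) {z s s' : G} (hz : z ∈ Γ) (h : F.Z z s)
    (h' : F.Z z s') : F.cmp s z = F.cmp s' z := by
  have hz2 := F.ord z h.left
  by_cases e : F.cmp z s = F.cmp z s'
  · have key := F.se s h.right z h.symm.mem hz2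
      {t | F.Z z t ∧ F.cmp t z = F.cmp s z} ⟨h, rfl⟩
    refine (key ?_ (conj_trivial (hO z hz)) s' h'.right ?_).2.symm
    · rintro t ⟨ht, hte⟩ r hrD hr htr
      have h1 : F.Z z r := (h.symm.of_mem_cmp hrD hr).1.symm
      refine ⟨h1, ?_⟩
      rw [← hte]
      exact h1.cmp_eq_of_comm I hO hz ht htr.symm
    · rw [e]; exact F.self_mem_cmp h'.right h'.symm.mem hz2
  · refine h.cmp_eq_of_comm I hO hz h' ?_
    exact commute_of_ne h.symm.tc h'.symm.tc e (hO z hz)
      (F.self_mem_cmp h.right h.symm.mem hz2) (F.self_mem_cmp h'.right h'.symm.mem hz2)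

open Classical in
variable (F) in
/-- the component `B(z) = M_s(L_z)` (independent of `s`) -/
noncomputable def B (z : G) : Subgroup G := if h : ∃ s, F.Z z s then F.cmp h.choose z else ⊥

theorem Z.B_eq (I : F.Inv Γ) (hO : ∀ u ∈ Γ, OC u = ⊥) {z s : G} (hz : z ∈ Γ) (h : F.Z z s) :
    F.B z = F.cmp s z := by
  have hex : ∃ s, F.Z z s := ⟨s, h⟩
  unfold B
  rw [dif_pos hex]
  exact Z.cmp_eq I hO hz hex.choose_spec h

theorem mem_B (I : F.Inv Γ) (hO : ∀ u ∈ Γ, OC u = ⊥) {z : G} (hz : z ∈ Γ) : z ∈ F.B z := by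
  obtain ⟨s, h⟩ : ∃ s, F.Z z s := F.exZ z (I.sub z hz)
  rw [Z.B_eq I hO hz h]; exact F.self_mem_cmp h.left h.mem (F.ord s h.right)

/-- `B v = B u` if `u, v` commute and `(u, v)` is not of type (0) -/
theorem B_of_not (I : F.Inv Γ) (hO : ∀ u ∈ Γ, OC u = ⊥) {u v : G} (hu : u ∈ Γ) (hv : v ∈ Γ)
    (hc : Commute u v) (hn : ¬ F.Z u v) : F.B v = F.B u := by
  by_cases e : u = v
  · rw [e]
  rcases F.common u (I.sub u hu) v (I.sub v hv) e hc with h | ⟨s, hs, hs'⟩
  · exact absurd h hn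
  · have h1 : F.Z u s := hs
    have h1' : F.Z v s := hs'
    have h2 : v ∈ F.cmp s u := h1.mem_cmp_of_not (I.sub v hv) hn hc.symm h1'.comm
    obtain ⟨-, h3⟩ := h1.of_mem_cmp (I.sub v hv) h2
    rw [Z.B_eq I hO hv h1', Z.B_eq I hO hu h1, h3]

theorem Z.B_comm (I : F.Inv Γ) (hO : ∀ u ∈ Γ, OC u = ⊥) {u v : G} (hu : u ∈ Γ) (h : F.Z u v)
    {a b : G} (ha : a ∈ F.B u) (hb : b ∈ F.B v) : Commute a b := by
  have hv : v ∈ Γ := I.z hu h
  rw [Z.B_eq I hO hv h.symm] at hb
  have h1 : F.cmp u v ≤ centralizer (F.B u : Set G) := by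
    apply h.symm.cmp_le I hO hv
    intro t htD ht
    have h2 : F.Z u t := (h.symm.of_mem_cmp htD ht).1.symm
    rw [mem_centralizer_iff]
    intro a ha
    rw [SetLike.mem_coe, Z.B_eq I hO hu h2] at ha
    exact mem_Ce.mp (h2.tc.le ha)
  exact mem_centralizer_iff.mp (h1 hb) a ha

/-- the components `B` are equal or commute -/
theorem B_eq_or (I : F.Inv Γ) (hO : ∀ u ∈ Γ, OC u = ⊥) {z w : G} (hz : z ∈ Γ) (h : F.Con z w) :
    w ∈ Γ ∧ (F.B w = F.B z ∨ ∀ a ∈ F.B w, ∀ b ∈ F.B z, Commute a b) := by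
  have hBB : ∀ u ∈ Γ, ∀ v ∈ Γ, Commute u v → F.B v = F.B u ∨ F.Z u v := by
    intro u hu v hv hc
    by_cases h1 : F.Z u v
    · exact Or.inr h1
    · exact Or.inl (B_of_not I hO hu hv hc h1)
  induction h with
  | refl => exact ⟨hz, Or.inl rfl⟩
  | @tail u v hzu huv ih =>
    obtain ⟨hu, ih⟩ := ih
    obtain ⟨-, hvD, hc⟩ := huv
    have hv : v ∈ Γ := I.adj u hu v hvD hc
    refine ⟨hv, ?_⟩
    rcases hBB u hu v hv hc with h1 | h1
    · rw [h1]; exact ih
    · rcases ih with h2 | h2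
      · right
        intro a ha b hb
        rw [← h2] at hb
        exact (h1.B_comm I hO hu hb ha).symm
      · have huz : Commute u z := h2 u (mem_B I hO hu) z (mem_B I hO hz)
        rcases hBB u hu z hz huz with h3 | h3
        · right
          intro a ha b hb
          rw [h3] at hb
          exact (h1.B_comm I hO hu hb ha).symm
        · by_cases e : F.B v = F.B z
          · exact Or.inl e
          · right
            intro a ha b hb
            rw [Z.B_eq I hO hv h1.symm] at ha e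
            rw [Z.B_eq I hO hz h3.symm] at hb e
            exact commute_of_ne h1.symm.tc h3.symm.tc e (hO u hu) ha hb

theorem false_of_core [IsSimpleGroup G] (I : F.Inv Γ) (hO : ∀ u ∈ Γ, OC u = ⊥) {u : G}
    (hu : u ∈ Γ) (hcon : ∀ w ∈ Γ, F.Con u w) : False := by
  obtain ⟨s, h⟩ : ∃ s, F.Z u s := F.exZ u (I.sub u hu)
  have hDn : (closure Γ).Normal := by
    refine ⟨fun n hn g => ?_⟩
    induction hn using closure_induction with
    | mem x hx => exact subset_closure (I.conj x hx g)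
    | one => rw [mul_one, mul_inv_cancel]; exact one_mem _
    | mul a b _ _ iha ihb =>
      have e : g * (a * b) * g⁻¹ = (g * a * g⁻¹) * (g * b * g⁻¹) := by group
      rw [e]; exact mul_mem iha ihb
    | inv a _ iha =>
      have e : g * a⁻¹ * g⁻¹ = (g * a * g⁻¹)⁻¹ := by group
      rw [e]; exact inv_mem iha
  have hDtop : closure Γ = ⊤ := by
    rcases hDn.eq_bot_or_eq_top with h1 | h1
    · exfalso
      have h2 : u ∈ closure Γ := subset_closure hu
      rw [h1, mem_bot] at h2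
      exact ne_one_of_order (F.ord u h.left) h2
    · exact h1
  have hle : closure Γ ≤ normalizer (F.B u : Set G) := by
    rw [closure_le]
    intro w hw
    have hwB := mem_B I hO hw
    rcases (B_eq_or I hO hu (hcon w hw)).2 with h1 | h1
    · rw [h1] at hwB
      exact le_normalizer hwB
    · rw [SetLike.mem_coe, mem_normalizer_iff_cj]
      have hfix : ∀ b ∈ F.B u, w * b * w⁻¹ = b := fun b hb =>
        conj_eq_of_commute (h1 w hwB b hb)
      have hsub : cj w (F.B u) ≤ F.B u := by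
        rintro _ ⟨b, hb, rfl⟩
        change w * b * w⁻¹ ∈ F.B u
        rw [hfix b hb]; exact hb
      exact Subgroup.eq_of_le_of_card_ge hsub (card_cj w _).ge
  rw [hDtop, top_le_iff, normalizer_eq_top_iff] at hle
  rcases hle.eq_bot_or_eq_top with h1 | h1
  · have h2 := mem_B I hO hu
    rw [h1, mem_bot] at h2
    exact ne_one_of_order (F.ord u h.left) h2
  · rw [Z.B_eq I hO hu h] at h1
    have h2 : Ce s = ⊤ := by rw [eq_top_iff, ← h1]; exact h.tc.le
    obtain ⟨k, -, hk⟩ := h.symm.exists_noncentral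
    apply hk
    have h3 : k ∈ Ce s := by rw [h2]; exact mem_top k
    exact mem_Ce.mp h3

/-- the cores vanish -/
theorem core_eq_bot [IsSimpleGroup G] (I : F.Inv Γ) {z : G} (hz : z ∈ Γ)
    (hcon : ∀ w ∈ Γ, F.Con z w) (W : G → Subgroup G)
    (hW1 : ∀ u ∈ F.D, Odd (Nat.card (W u))) (hW2 : ∀ u ∈ F.D, OC u ≤ W u)
    (hW3 : ∀ u ∈ F.D, ∀ g, W (g * u * g⁻¹) = cj g (W u))
    (hW4 : ∀ u ∈ F.D, ∀ v ∈ F.D, Commute u v → W u = W v) : ∀ u ∈ Γ, OC u = ⊥ := by
  have hconst : ∀ w, F.Con z w → W w = W z := by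
    intro w hw
    induction hw with
    | refl => rfl
    | tail _ hbc ih => rw [← ih]; exact (hW4 _ hbc.1 _ hbc.2.1 hbc.2.2).symm
  have hzD := I.sub z hz
  have hn : (W z).Normal := by
    rw [← normalizer_eq_top_iff, eq_top_iff]
    intro g _
    rw [mem_normalizer_iff_cj, ← hW3 z hzD g]
    exact hconst _ (hcon _ (I.conj z hz g))
  intro u hu
  have h0 : OC u ≤ W z := by
    rw [← hconst u (hcon u hu)]; exact hW2 u (I.sub u hu)
  rcases hn.eq_bot_or_eq_top with h1 | h1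
  · rw [eq_bot_iff, ← h1]; exact h0
  · exfalso
    have h2 := hW1 z hzD
    rw [h1, Subgroup.card_top] at h2
    have h3 : 2 ∣ Nat.card G := by
      rw [← F.ord z hzD]; exact orderOf_dvd_natCard z
    exact (Nat.not_even_iff_odd.mpr h2) (even_iff_two_dvd.mpr h3)

end FrameE

universe u

/-- **(5b.1), (5b.2)**: the component of `z` is not `G`-invariant -/
theorem FrameE.stab_ne_top {G : Type u} [Group G] [Finite G] [IsSimpleGroup G]
    (FT : Functor.OddSol G) (F : FrameE G) {z : G} (hz : z ∈ F.D) : F.stab z ≠ ⊤ := by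
  intro e
  have I : F.Inv {w | F.Con z w} :=
    ⟨fun u hu => Con.mem hu hz, fun u hu v hv hc => Con.trans hu (Con.of_adj (Con.mem hu hz) hv hc),
      fun u hu g => conj_of_mem_stab (by rw [e]; exact mem_top g) hu⟩
  have hzΓ : z ∈ {w | F.Con z w} := Con.refl z
  obtain ⟨W, h1, h2, h3, h4⟩ := HeP.Functor.hW FT F
  exact false_of_core I (core_eq_bot I hzΓ (fun w hw => hw) W h1 h2 h3 h4) hzΓ fun w hw => hw

end Cfsg.Agent.UGT.I34.HeP
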