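import Cfsg.Agent.UGT.I34.HeP.Base

/-!
# I34 [C], supply of `FrameE`: the field `diag`
-/

set_option autoImplicit false
set_option linter.unusedSectionVars false
set_option linter.unusedVariables false

open Cfsg Subgroup
open Cfsg.Agent.SignalizersComponents Cfsg.Agent.Lib
open Cfsg.Agent.SignalizersComponents.IntrinsicBasic
open Cfsg.Agent.SignalizersComponents.PLayerAut
open Cfsg.Agent.SignalizersComponents.RelSylow
open Cfsg.Agent.Intrinsic
open Cfsg.Agent.Intrinsic.Basic hiding IsPair PQS Target IsPair.sq IsPair.ne_one IsPair.cj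
open Cfsg.Agent.Intrinsic.Cen hiding pair_comm pair_mem_cen exists_pump pump_unique
open Cfsg.Agent.Intrinsic.Quot hiding Big isPair_quot small_or_big
open Cfsg.Agent.Intrinsic.Diag (exists_diag mem_diag)
open Cfsg.Agent.Intrinsic.WOneA (Ce OC)
open Cfsg.Agent.UGT.I34.Pair Cfsg.Agent.UGT.I34.WOne
open Cfsg.Agent.UGT.I34.Four (Sett Can HeT Klein)
open Cfsg.Agent.McLLyComp.Act hiding mk_eq_one_iff

namespace Cfsg.Agent.UGT.I34.HeP

universe v

variable {G : Type v} [Group G] [Finite G] {κ : Kind.{v}}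

namespace SW

variable {D : Set G} {L : G → Subgroup G} {u v t x s a b : G}

/-- an involution `c ∈ L b` whose centralizer in `L b` contains a 2-component of some subgroup is central modulo
`O(L b)` -/
theorem fixes_of_comp (h : SW κ D L) (hb : b ∈ D) {c : G} (hc : c ∈ L b) (hc2 : c * c = 1)
    {H N : Subgroup G} (hN : IsComp H N) (hNL : N ≤ L b) (hNc : ∀ y ∈ N, y * c = c * y) :
    Fixes c (L b) := by
  by_contra hf
  have h1 : (QuotientGroup.mk ⟨c, hc⟩ : ↥(L b) ⧸ oddCore ↥(L b)) ∉ center _ :=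
    fun h2 => hf ((W1.mk_center_iff hc).mp h2)
  have h2 := h.solv (h.pair hb).kind _ (W1.mk_sq hc hc2) h1
    ((N.subgroupOf (L b)).map (QuotientGroup.mk' (oddCore ↥(L b)))) ?_ ?_
  · refine hN.not_odd (odd_card_core (L b)) fun y hy => ?_
    have h3 : (QuotientGroup.mk ⟨y, hNL hy⟩ : ↥(L b) ⧸ oddCore ↥(L b)) ∈
        (N.subgroupOf (L b)).map (QuotientGroup.mk' (oddCore ↥(L b))) := ⟨⟨y, hNL hy⟩, hy, rfl⟩
    rw [h2, mem_bot, mk_eq_one_iff] at h3
    exact h3
  · rintro _ ⟨⟨y, hyL⟩, hy, rfl⟩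
    change (QuotientGroup.mk ⟨y * c, (L b).mul_mem hyL hc⟩ : ↥(L b) ⧸ oddCore ↥(L b)) =
      QuotientGroup.mk ⟨c * y, (L b).mul_mem hc hyL⟩
    congr 1
    exact Subtype.ext (hNc y hy)
  · rw [← map_commutator]
    congr 1
    apply map_injective (L b).subtype_injective
    rw [map_commutator, subgroupOf_map_subtype, inf_of_le_left hNL, hN.perfect]

/-- the field `diag` -/
theorem diag (h : SW κ D L) : ∀ b : G, orderOf b = 2 → ∀ v : G, ZP D L v (b * v * b⁻¹) →
    ∃ R, TC (Ce b) R ∧ v * (b * v * b⁻¹) ∈ R ∧ (b ∈ D → v * (b * v * b⁻¹) ∉ L b) := by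
  intro b hbo v hZ
  have hprod := h.prod hZ
  obtain ⟨hv, hwD, hmem, hnm⟩ := hZ
  have hbb := sq_of hbo
  have hbi : b⁻¹ = b := inv_eq_of_mul_eq_one_left hbb
  obtain ⟨w, hw⟩ : ∃ w, w = b * v * b⁻¹ := ⟨_, rfl⟩
  rw [← hw] at hprod hwD hmem hnm ⊢
  obtain ⟨hwv, hfw⟩ := (h.mem_K hv).mp hmem
  have hv2 := h.sq hv
  have hw2 := h.sq hwD
  have hne : w ≠ v := fun e => hnm (by rw [e]; exact h.mem hv)
  obtain ⟨c, hc⟩ : ∃ c, c = v * w := ⟨_, rfl⟩
  rw [← hc] at hprod ⊢
  have hcv : c * v = v * c := by rw [hc, mul_assoc, hwv]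
  have hcc : c * c = 1 := by
    rw [hc]
    exact mul_sq hv2 hw2 hwv.symm
  have hc1 : c ≠ 1 := by
    rw [hc]
    exact mul_ne_one hw2 (Ne.symm hne)
  have hco := order_two hcc hc1
  have hbwb : b * w * b⁻¹ = v := by
    rw [hw, hbi]
    calc b * (b * v * b) * b = (b * b) * v * (b * b) := by group
      _ = v := by rw [hbb, one_mul, mul_one]
  have hbc : b * c * b⁻¹ = c := by
    have : b * c * b⁻¹ = (b * v * b⁻¹) * (b * w * b⁻¹) := by rw [hc]; group
    rw [this, hbwb, ← hw, hwv, hc]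
  have hbc' : b * c = c * b := by
    calc b * c = b * c * b⁻¹ * b := by group
      _ = c * b := by rw [hbc]
  have hfv : Fixes v (L v) := h.fixes_self hv
  have hfc : Fixes c (L v) := by rw [hc]; exact fixes_mul hfv hfw
  have hpv := h.pair hv
  have hM := pump_comp hpv hcc hcv hfc
  have hvM := mem_pump hpv hcc hcv hfc
  have hcK : c ∈ cenMod (Ce v) (L v) := (h.mem_K hv).mpr ⟨hcv, hfc⟩
  obtain ⟨M, hMdef⟩ : ∃ M, M = pump c (L v) := ⟨_, rfl⟩
  rw [← hMdef] at hM hvM
  have hbC : b ∈ centralizer ({c} : Set G) := mem_centralizer_singleton_iff.mpr hbc'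
  have hwM : w ∈ cj b M := by rw [hw]; exact conj_mem_cj hvM
  have hmove : cj b M ≠ M := by
    intro h1
    rw [h1] at hwM
    have hcM : c ∈ M := by rw [hc]; exact mul_mem hvM hwM
    rw [hMdef] at hcM
    have h3 := h.of_cmp v hv c hcK hco c hcM hco hcK
    apply hnm
    have h4 : w = v * c := by rw [hc, ← mul_assoc, hv2, one_mul]
    rw [h4]
    exact (L v).mul_mem (h.mem hv) h3
  obtain ⟨hN, -, -, -, -⟩ := exists_diag hM hbC hbb hmove
  have hcN : c ∈ Cfsg.Agent.Intrinsic.Diag.diag (centralizer ({c} : Set G)) M b :=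
    mem_diag (mem_centralizer_singleton_iff.mpr rfl) hbc'.symm hvM
      (by rw [← hw, ← hc, inv_mul_cancel]; exact one_mem _) (n := 1)
      (by rw [pow_one, pow_two]; exact hcc)
  rw [inf_comm] at hN
  obtain ⟨R, hR, hNR⟩ := exists_pumpup hcc hcN hN
  refine ⟨R, hR.tc, hNR hcN, fun hbD hcL => ?_⟩
  have hf : Fixes c (L b) := by
    by_cases e : L b = R
    · refine h.fixes_of_comp hbD hcL hcc hN (by rw [e]; exact hNR) fun y hy => ?_
      exact mem_centralizer_singleton_iff.mp (hN.le hy).2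
    · exact (h.comp hbD).fixes_of_mem hR e (hNR hcN)
  exact hprod (h.vess hbD hcL hcc hc1 hf)

end SW

end Cfsg.Agent.UGT.I34.HeP
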