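import Cfsg.Agent.UGT.I34.HeP.LemmaF
import Cfsg.Agent.AschCrit.Pure
import Cfsg.Agent.Intrinsic.WOneA.End

/-!
Theorem I34, part [C], text #15072, STEP 4: the stabilizer `N` of a component of the commuting graph on `D` is `G`
(Theorem P of `AschCrit.Pure` and Aschbacher's criterion S1175).
-/

set_option autoImplicit false

namespace Cfsg.Agent.UGT.I34.HeP.End

open Subgroup Cfsg
open Cfsg.Agent.SignalizersComponents
open Cfsg.Agent.SignalizersComponents.PLayerAut
open Cfsg.Agent.SignalizersComponents.IntrinsicBasic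
open Cfsg.Agent.Intrinsic.WOneA (Ce OC mem_Ce mul_self_of_order ne_one_of_order order_two
  inv_eq_of_order pow_of_order orderOf_cj conj_eq_of_commute Asch)
open Cfsg.Agent.UGT.I34.HeP.Stab Cfsg.Agent.UGT.I34.HeP.LemmaF
open Cfsg.Agent.AschCrit.Pure

variable {G : Type*} [Group G] [Finite G] {F : FrameE G}

omit [Finite G] in
/-- the product of two commuting conjugates of `z` is in some `K_s`, `s ∈ Γ` -/
theorem exists_K {z z' : G} (hz : z ∈ F.D) (hz' : z' ∈ F.D) (hne : z ≠ z') (hc : Commute z z') :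
    orderOf (z * z') = 2 ∧ ∃ s, F.Con z s ∧ z * z' ∈ F.K s := by
  refine ⟨order_mul (F.ord z hz) (F.ord z' hz') hc hne, ?_⟩
  rcases F.common z hz z' hz' hne hc with h | ⟨s, h, h'⟩
  · exact ⟨z, Relation.ReflTransGen.refl, (F.K z).mul_mem (self_mem_K hz) h.mem⟩
  · exact ⟨s, Con.of_adj hz h.right (zcomm h), (F.K s).mul_mem (K_right h) (K_right h')⟩

omit [Finite G] in
theorem smul_iff {N : Subgroup G} {x a : G} (hx : orderOf x = 2) :
    x • (QuotientGroup.mk a : G ⧸ N) = QuotientGroup.mk a ↔ a⁻¹ * x * a ∈ N := by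
  have h1 : x • (QuotientGroup.mk a : G ⧸ N) = QuotientGroup.mk (x * a) := rfl
  rw [h1, QuotientGroup.eq, mul_inv_rev, inv_eq_of_order hx]

/-- **STEP 4** -/
theorem N_eq_top (hA : Asch G) {z : G} (hz : z ∈ F.D) : N F z = ⊤ := by
  by_contra hN
  have hz2 := F.ord z hz
  have hzN : z ∈ N F z := Ce_le_N Relation.ReflTransGen.refl (mem_Ce.mpr (Commute.refl z))
  have hz3 : ∀ g : G, g * z * g⁻¹ ∈ N F z → g ∈ N F z := fun g hg =>
    mem_of_conj hz hN Relation.ReflTransGen.refl hg
  have hfix : ∀ a : G ⧸ N F z, z • a = a → a = QuotientGroup.mk 1 := by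
    intro a ha
    obtain ⟨a, rfl⟩ := QuotientGroup.mk_surjective a
    rw [smul_iff hz2] at ha
    rw [eq_comm, QuotientGroup.eq, inv_one, one_mul]
    have h1 := hz3 a⁻¹ (by rwa [inv_inv])
    rwa [inv_mem_iff] at h1
  have hP : PSetup G (G ⧸ N F z) z := by
    refine
      { invol := hz2
        nontriv := ?_
        trans := fun a b => MulAction.exists_smul_eq G a b
        exists_fix := ⟨QuotientGroup.mk 1, (smul_iff hz2).mpr (by simpa using hzN)⟩
        fix_unique := fun a b ha hb => (hfix a ha).trans (hfix b hb).symm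
        pure := ?_ }
    · obtain ⟨g, hg⟩ : ∃ g, g ∉ N F z := by
        by_contra hcon
        push Not at hcon
        exact hN (eq_top_iff.mpr fun x _ => hcon x)
      refine ⟨QuotientGroup.mk 1, QuotientGroup.mk g, fun h => hg ?_⟩
      rw [QuotientGroup.eq, inv_one, one_mul] at h
      exact h
    · intro g hc hne a b ha hb
      obtain ⟨hw2, s, hs, hK⟩ := exists_K hz (F.conj z hz g) (Ne.symm hne) hc
      have key : ∀ a : G ⧸ N F z, (z * (g * z * g⁻¹)) • a = a → a = QuotientGroup.mk 1 := by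
        intro a ha
        obtain ⟨a, rfl⟩ := QuotientGroup.mk_surjective a
        rw [smul_iff hw2] at ha
        rw [eq_comm, QuotientGroup.eq, inv_one, one_mul]
        have h1 := lemmaF (g := a⁻¹) hz hN hs hK hw2 (by rwa [inv_inv])
        rwa [inv_mem_iff] at h1
      exact (key a ha).trans (key b hb).symm
  obtain ⟨H, hH⟩ := hA (N F z) hN z hz2 hzN hP.setup.central hz3 (fun g hc hne => by
    obtain ⟨hw2, s, hs, hK⟩ := exists_K hz (F.conj z hz g) (Ne.symm hne) hc
    exact Ce_le hz hs hK hw2)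
  obtain ⟨s, hs⟩ := F.exZ z hz
  obtain ⟨g, hg⟩ := isConj_iff.mp (TwoFusion.StronglyEmbeddedBasic.isConj_of_involutions hH z
    (z * s) hz2 (order_mul hz2 (F.ord s hs.right) (zcomm hs) (zne hs)))
  apply F.prod z s hs
  rw [← hg]
  exact F.conj z hz g

end Cfsg.Agent.UGT.I34.HeP.End
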