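import Cfsg.Agent.UGT.I34.HeP.Comp
import Cfsg.Agent.UGT.I34.HeP.End

/-!
Theorem I34, part [C]: the world of a `FrameE` is empty (#15072, STEPS 1-4), modulo Aschbacher's criterion and
the odd order theorem.
-/

set_option autoImplicit false

namespace Cfsg.Agent.UGT.I34.HeP

open Cfsg
open Cfsg.Agent.Intrinsic.WOneA (Asch)

universe u

variable {G : Type u} [Group G] [Finite G]

theorem stab_eq_top (hA : Asch G) (F : FrameE G) {z : G} (hz : z ∈ F.D) : F.stab z = ⊤ := by
  rw [← End.N_eq_top hA hz]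
  rfl

/-- **A simple group has no `FrameE` with `D ≠ ∅`.** -/
theorem FrameE.false [IsSimpleGroup G] (FT : Intrinsic.Functor.OddSol G) (hA : Asch G)
    (F : FrameE G) {z : G} (hz : z ∈ F.D) : False :=
  F.stab_ne_top FT hz (stab_eq_top hA F hz)

end Cfsg.Agent.UGT.I34.HeP
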