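import Cfsg.Agent.UGT.I34.HeP.Stab

/-!
Theorem I34, part [C], text #15072: LEMMA F. `N` the stabilizer of a component `Γ ≠ D` of the commuting graph, `v ∈ Γ`,
`w` an involution of `K_v`: `w^g ∈ N` implies `g ∈ N`.
-/

set_option autoImplicit false

namespace Cfsg.Agent.UGT.I34.HeP.LemmaF

open Subgroup Cfsg
open Cfsg.Agent.SignalizersComponents
open Cfsg.Agent.SignalizersComponents.PLayerAut
open Cfsg.Agent.SignalizersComponents.IntrinsicBasic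
open Cfsg.Agent.SignalizersComponents.RelSylow
open Cfsg.Agent.Intrinsic.WOneA (Ce OC mem_Ce mul_self_of_order ne_one_of_order order_two
  inv_eq_of_order pow_of_order orderOf_cj conj_eq_of_commute)
open Cfsg.Agent.UGT.I34.HeP.Stab

variable {G : Type*} [Group G] [Finite G] {F : FrameE G}

/-- **LEMMA F** -/
theorem lemmaF {z v w g : G} (hz : z ∈ F.D) (hN : N F z ≠ ⊤) (hv : F.Con z v) (hw : w ∈ F.K v)
    (hw2 : orderOf w = 2) (h : g * w * g⁻¹ ∈ N F z) : g ∈ N F z := by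
  by_contra hg
  have hvD := Con.mem hv hz
  have hCw := Ce_le hz hv hw hw2
  obtain ⟨b, hb⟩ : ∃ b, b = g * w * g⁻¹ := ⟨_, rfl⟩
  obtain ⟨v', hv'⟩ : ∃ v', v' = g * v * g⁻¹ := ⟨_, rfl⟩
  rw [← hb] at h
  have hb2 : orderOf b = 2 := by rw [hb, orderOf_cj]; exact hw2
  have hv'D : v' ∈ F.D := hv' ▸ F.conj v hvD g
  have hbK : b ∈ F.K v' := by
    rw [hv', K_conj hvD, hb]
    exact conj_mem_cj hw
  -- `C(b) ≤ N ^ g`
  have hCb : ∀ y ∈ Ce b, g⁻¹ * y * g ∈ N F z := by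
    intro y hy
    apply hCw
    rw [mem_Ce]
    have h1 : Commute y b := mem_Ce.mp hy
    have h2 : g⁻¹ * b * g = w := by rw [hb]; group
    have h3 := (Commute.map h1 (MulAut.conj g⁻¹).toMonoidHom :)
    have h4 : Commute (g⁻¹ * y * g⁻¹⁻¹) (g⁻¹ * b * g⁻¹⁻¹) := h3
    rw [inv_inv, h2] at h4
    exact h4
  -- `D ∩ N ∩ N ^ g = ∅`
  have hemp : ∀ d ∈ F.D, d ∈ N F z → g⁻¹ * d * g ∈ N F z → False := by
    intro d hd hdN hdN'
    have h1 := con_of_mem hz hN hd hdN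
    have h2 := con_of_mem hz hN (w := g⁻¹ * d * g) (by
      have := F.conj d hd g⁻¹
      rwa [inv_inv] at this) hdN'
    apply hg
    rw [mem_N_iff h2, show g * (g⁻¹ * d * g) * g⁻¹ = d by group]
    exact h1
  rcases F.fix_or_swap z hz (N F z) hN (fun u hu => Ce_le_N hu) b h hb2 with
    ⟨d, hd, hc⟩ | ⟨t, ht, hZ⟩
  · exact hemp d (Con.mem hd hz) (Ce_le_N hd (mem_Ce.mpr (Commute.refl d))) (hCb d (mem_Ce.mpr hc))
  · obtain ⟨t', ht'⟩ : ∃ t', t' = b * t * b⁻¹ := ⟨_, rfl⟩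
    rw [← ht'] at hZ
    have hbi := inv_eq_of_order hb2
    have htc := zcomm hZ
    obtain ⟨c, hcd⟩ : ∃ c, c = t * t' := ⟨_, rfl⟩
    have hc2 : orderOf c = 2 := hcd ▸ order_mul (F.ord t hZ.left) (F.ord t' hZ.right) htc (zne hZ)
    have hcK : c ∈ F.K t := hcd ▸ (F.K t).mul_mem (self_mem_K hZ.left) hZ.mem
    have hCc := Ce_le hz ht hcK hc2
    -- no element of `D ∩ N ^ g` commutes with `c`
    have hno : ∀ d ∈ F.D, g⁻¹ * d * g ∈ N F z → ¬ Commute d c := fun d hd hdN hdc =>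
      hemp d hd (hCc (mem_Ce.mpr hdc)) hdN
    obtain ⟨R, hR, hcR, -⟩ := F.diag b hb2 t (ht' ▸ hZ)
    rw [← ht', ← hcd] at hcR
    have hX := F.cmp_comp v' hv'D b hbK hb2
    have hvX := self_mem_cmp hv'D hbK hb2
    by_cases e : F.cmp b v' = R
    · obtain ⟨d, hd, hdX, hdc⟩ := F.cmp_fix v' hv'D b hbK hb2 c (e ▸ hcR) hc2
      exact hno d hd (hCb d (hX.le hdX)) hdc
    · have h1 : v'⁻¹ * (c * v' * c⁻¹) ∈ OC b :=
        ((mem_cenMod hX.le).mp (hX.le_cenMod hR e hcR)).2 v' hvX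
      obtain ⟨o, ho, hcom⟩ := exists_comm hc2 (F.ord v' hv'D) (hR.le hcR) (hX.le hvX) h1
      refine hno (o * v' * o⁻¹) (F.conj v' hv'D o) (hCb _ ?_) hcom.symm
      have hoC : o ∈ Ce b := (relCore_le 2 (Ce b)) ho
      exact mul_mem (mul_mem hoC (hX.le hvX)) (inv_mem hoC)

end Cfsg.Agent.UGT.I34.HeP.LemmaF
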