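import Cfsg.Agent.UGT.I34.HeP.Close
import Cfsg.Agent.UGT.I34.HeP.FalseE
import Cfsg.Agent.UGT.I34.FourNZOf

/-!
# THEOREM I34, part [C]: pairs of type (0) outside vessels do not exist

`DD κ G`: the involutions of pairs; `LL κ u`: the 2-component of the pair of `u`.

* `Five κ G`: the outputs of (5.2)-(5.5);
* `swOf`, `cloOf`: `SW`, `Clo` from `World`;
* `false_of_zero`: no pair `(u, X)`, `(s, Y)` with `u s = s u`, `Fixes s X`, `s ∉ X`.
-/

set_option autoImplicit false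
set_option linter.unusedSectionVars false

open Cfsg Subgroup
open Cfsg.Agent.SignalizersComponents Cfsg.Agent.Lib
open Cfsg.Agent.SignalizersComponents.IntrinsicBasic
open Cfsg.Agent.SignalizersComponents.PLayerAut
open Cfsg.Agent.SignalizersComponents.RelSylow
open Cfsg.Agent.Intrinsic
open Cfsg.Agent.Intrinsic.Basic hiding IsPair PQS Target IsPair.sq IsPair.ne_one IsPair.cj
open Cfsg.Agent.Intrinsic.Cen hiding pair_comm pair_mem_cen exists_pump pump_unique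
open Cfsg.Agent.Intrinsic.Quot hiding Big isPair_quot small_or_big mk_eq_one_iff
open Cfsg.Agent.Intrinsic.WOneA (Ce OC Asch)
open Cfsg.Agent.McLLyComp.Act
open Cfsg.Agent.UGT.I34.Pair Cfsg.Agent.UGT.I34.KAut Cfsg.Agent.UGT.I34.WOne
open Cfsg.Agent.UGT.I34.Four (Sett Can HeT Klein TypeF FG Over World HeOut ExP can_conj_of)
open scoped commutatorElement

namespace Cfsg.Agent.UGT.I34.HeP

universe v

/-- the involutions of pairs -/
def DD (κ : Kind.{v}) (G : Type v) [Group G] : Set G := {u | ∃ X, IsPair κ u X}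

open Classical in
/-- the 2-component of the pair -/
noncomputable def LL (κ : Kind.{v}) {G : Type v} [Group G] (u : G) : Subgroup G :=
  if h : ∃ X, IsPair κ u X then h.choose else ⊥

theorem pair_LL {κ : Kind.{v}} {G : Type v} [Group G] {u : G} (hu : u ∈ DD κ G) : IsPair κ u (LL κ u) := by
  have h : ∃ X, IsPair κ u X := hu
  rw [LL, dif_pos h]
  exact h.choose_spec

/-- The outputs of (5.2)-(5.5), for `D = DD κ G`, `L = LL κ`. -/
structure Five (κ : Kind.{v}) (G : Type v) [Group G] [Finite G] : Prop where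
  /-- (5.5) -/
  prod : ∀ {u s : G}, ZP (DD κ G) (LL κ) u s → u * s ∉ DD κ G
  /-- (5.5) -/
  isBig : ∀ u s : G, ZP (DD κ G) (LL κ) u s → IsBig κ u (LL κ u) s
  /-- (5.3) -/
  big_can : ∀ u ∈ DD κ G, ∀ t ∈ DD κ G, t ∈ LL κ u → ¬ Fixes t (LL κ u) → ∀ x : G, x * x = 1 → x ≠ 1 →
    x * u = u * x → x * t = t * x → Fixes x (LL κ u) → IsBig κ u (LL κ u) x → Fixes x (LL κ t)
  /-- `D ∩ M` is a class of `M` -/
  cls : ∀ {u x t : G}, u ∈ DD κ G → x * x = 1 → x ≠ 1 → x * u = u * x → Fixes x (LL κ u) →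
    IsBig κ u (LL κ u) x → t ∈ DD κ G → t ∈ pump x (LL κ u) → ∃ g ∈ pump x (LL κ u), g * u * g⁻¹ = t
  /-- (C2) -/
  memC : ∀ u s : G, ZP (DD κ G) (LL κ) u s → ∀ v ∈ DD κ G, Commute v u → Commute v s → v ∉ LL κ u →
    v ∉ cenMod (Ce u) (LL κ u) → ZP (DD κ G) (LL κ) v s ∧ v ∈ pump s (LL κ u)
  /-- (C5) -/
  cen5 : ∀ u s : G, ZP (DD κ G) (LL κ) u s → ∀ j : G, ZP (DD κ G) (LL κ) u j → Commute s j →
    j ∈ cenMod (Ce s) (pump s (LL κ u))

/-- `C(t)` in `2².L₃(4)` is solvable, `t` a noncentral involution -/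
def Solv (κ : Kind.{v}) : Prop :=
  ∀ {K : Type v} [Group K] [Finite K], κ.P K → ∀ t : K, t * t = 1 → t ∉ center K →
    ∀ A : Subgroup K, (∀ a ∈ A, a * t = t * a) → ⁅A, A⁆ = A → A = ⊥

/-- canonical involutions are conjugate -/
def CanConj (κ : Kind.{v}) : Prop :=
  ∀ {K : Type v} [Group K] [Finite K], κ.P K → ∀ s t : K, Can s → Can t → ∃ g, g * s * g⁻¹ = t

section world

variable {κ : Kind.{v}} {G : Type v} [Group G] [Finite G] {u v t w x s : G} {X Y : Subgroup G}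

theorem one_LL (W : World κ G) (hp : ExP κ G) (hu : IsPair κ u X) : X = LL κ u := by
  obtain ⟨v, Y, hv, huv, hnf⟩ := hp (pair_LL ⟨X, hu⟩)
  exact W.one_of (pair_LL ⟨X, hu⟩) hv huv hnf X hu

theorem can_LL (W : World κ G) (hp : ExP κ G) (hc : CanConj κ) (hu : u ∈ DD κ G) (ht : t ∈ LL κ u)
    (htt : t * t = 1) (hcan : Can (QuotientGroup.mk ⟨t, ht⟩ : ↥(LL κ u) ⧸ oddCore ↥(LL κ u))) :
    t ∈ DD κ G ∧ u ∈ LL κ t := by
  obtain ⟨v, Y, hv, huv, hnf⟩ := hp (pair_LL hu)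
  obtain ⟨Z, hZ, ⟨h1, -⟩, -⟩ := W.canP (pair_LL hu) (hc (pair_LL hu).kind) hv huv hnf ht htt hcan
  refine ⟨⟨Z, hZ⟩, ?_⟩
  rw [← one_LL W hp hZ]
  exact h1

theorem ves_LL (W : World κ G) (hp : ExP κ G) (hu : u ∈ DD κ G) (hw : w ∈ LL κ u) (hww : w * w = 1)
    (hw1 : w ≠ 1) (hf : Fixes w (LL κ u)) : w ∈ DD κ G ∧ u ∈ LL κ w := by
  obtain ⟨M, hM, hvM, -⟩ := W.sett.vess (pair_LL hu) hw hww hw1 hf
  refine ⟨⟨M, hM⟩, ?_⟩
  rw [← one_LL W hp hM]
  exact hvM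

/-- `SW` -/
theorem swOf (W : World κ G) (hp : ExP κ G) (hX : HeX κ) (hs : Solv κ) (hc : CanConj κ) (F : Five κ G) :
    SW κ (DD κ G) (LL κ) where
  sett := W.sett
  hex := hX
  solv := hs
  pair := pair_LL
  one := fun _ _ h => one_LL W hp h
  conj := fun hu g => ⟨_, (pair_LL hu).cj g⟩
  vess := fun hu hw hww hw1 hf => (ves_LL W hp hu hw hww hw1 hf).1
  can := fun hu ht htt hcan => can_LL W hp hc hu ht htt hcan
  cls := F.cls
  prod := F.prod

theorem mem_symm_LL (W : World κ G) (hp : ExP κ G) (hc : CanConj κ) (hu : u ∈ DD κ G) (ht : t ∈ DD κ G)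
    (htL : t ∈ LL κ u) : u ∈ LL κ t := by
  by_cases hf : Fixes t (LL κ u)
  · exact (ves_LL W hp hu htL (pair_LL ht).sq (pair_LL ht).ne_one hf).2
  · have h1 := (W.ti u t _ _ (pair_LL hu) (pair_LL ht) (pair_comm (pair_LL hu) htL).symm
      (Four.isInn_of_mem htL) hf).1
    obtain ⟨h2, h3⟩ := h1
    exact (can_LL W hp hc hu h2 (pair_LL ht).sq h3).2

/-- `Clo` -/
theorem cloOf (W : World κ G) (hp : ExP κ G) (hX : HeX κ) (hs : Solv κ) (hc : CanConj κ) (hO : HeOut κ)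
    (F : Five κ G) : Clo κ (DD κ G) (LL κ) where
  sw := swOf W hp hX hs hc F
  mem_symm := fun _ hu _ ht h => mem_symm_LL W hp hc hu ht h
  isBig := F.isBig
  big_can := F.big_can
  typeF := by
    intro u hu v hv huv hnf hnL
    rcases W.tri (pair_LL hu) (pair_LL hv) huv with h1 | ⟨h1, -⟩ | ⟨ho, -⟩
    · exact absurd h1 hnf
    · exact absurd h1 hnL
    · obtain ⟨ho', J, J', C, h1, h2, h3, h4⟩ := W.exists_typeF_eq hO (pair_LL hu) (pair_LL hv) huv ho
      exact ⟨ho.1, ho'.1, J, J', C, h1, h2, h3, h4⟩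

end world

/-! ### the elements with a partner of type (0) -/

namespace Clo

variable {G : Type v} [Group G] [Finite G] {κ : Kind.{v}} {D : Set G} {L : G → Subgroup G}
  {u v t x s s₀ a b g w : G}

/-- the elements of `D` with a partner of type (0) -/
def DZ (D : Set G) (L : G → Subgroup G) : Set G := {u | ∃ s, ZP D L u s}

theorem DZ_le (hu : u ∈ DZ D L) : u ∈ D := hu.choose_spec.left

theorem right_DZ (h : Clo κ D L) (hZ : ZP D L u s) : s ∈ DZ D L := ⟨u, h.symmZ hZ⟩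

/-- closure -/
theorem close' (h : Clo κ D L) (hu : u ∈ DZ D L) (hv : v ∈ D) (huv : u * v = v * u) : v ∈ DZ D L := by
  obtain ⟨s₀, hZ⟩ := hu
  by_cases h1 : ZP D L u v
  · exact h.right_DZ h1
  · obtain ⟨s, -, hs⟩ := h.close hZ hv huv h1
    exact ⟨s, hs⟩

theorem zp_iff (h : Clo κ D L) : ZP (DZ D L) L u s ↔ ZP D L u s :=
  ⟨fun hZ => ⟨DZ_le hZ.left, DZ_le hZ.right, hZ.mem, hZ.nmem⟩,
    fun hZ => ⟨⟨s, hZ⟩, h.right_DZ hZ, hZ.mem, hZ.nmem⟩⟩

/-- `SW` for the elements with a partner of type (0) -/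
theorem swDZ (h : Clo κ D L) : SW κ (DZ D L) L where
  sett := h.sw.sett
  hex := h.sw.hex
  solv := h.sw.solv
  pair := fun hu => h.sw.pair (DZ_le hu)
  one := fun hu _ hX => h.sw.one (DZ_le hu) hX
  conj := by
    rintro u ⟨s, hZ⟩ g
    exact ⟨_, h.conjZ hZ g⟩
  vess := fun hu hw hww hw1 hf => h.close' hu (h.sw.vess (DZ_le hu) hw hww hw1 hf)
    (h.sw.comm (DZ_le hu) hw).symm
  can := by
    intro u t hu ht htt hcan
    obtain ⟨h1, h2⟩ := h.sw.can (DZ_le hu) ht htt hcan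
    exact ⟨h.close' hu h1 (h.sw.comm (DZ_le hu) ht).symm, h2⟩
  cls := fun hu hxx hx1 hx hf hb ht htp => h.sw.cls (DZ_le hu) hxx hx1 hx hf hb (DZ_le ht) htp
  prod := fun hZ hc => h.sw.prod (h.zp_iff.mp hZ) (DZ_le hc)

/-- `Rest` for the elements with a partner of type (0) -/
theorem restDZ (h : Clo κ D L) (hA : Bal.AutL κ)
    (memC : ∀ u s : G, ZP D L u s → ∀ v ∈ D, Commute v u → Commute v s → v ∉ L u →
      v ∉ cenMod (Ce u) (L u) → ZP D L v s ∧ v ∈ pump s (L u))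
    (cen5 : ∀ u s : G, ZP D L u s → ∀ j : G, ZP D L u j → Commute s j → j ∈ cenMod (Ce s) (pump s (L u))) :
    Rest κ (DZ D L) L where
  mem_symm := fun u hu t ht h1 => h.mem_symm u (DZ_le hu) t (DZ_le ht) h1
  exZ := by
    rintro u ⟨s, hZ⟩
    exact ⟨s, h.zp_iff.mpr hZ⟩
  isBig := fun u s hZ => h.isBig u s (h.zp_iff.mp hZ)
  common := by
    intro u hu v hv _ huv
    by_cases h1 : ZP D L u v
    · exact Or.inl (h.zp_iff.mpr h1)
    · obtain ⟨s₀, hZ⟩ := hu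
      obtain ⟨s, h2, h3⟩ := h.close hZ (DZ_le hv) huv.eq h1
      exact Or.inr ⟨s, h.zp_iff.mpr h2, h.zp_iff.mpr h3⟩
  memC := by
    intro u s hZ v hv h1 h2 h3 h4
    obtain ⟨h5, h6⟩ := memC u s (h.zp_iff.mp hZ) v (DZ_le hv) h1 h2 h3 h4
    exact ⟨h.zp_iff.mpr h5, h6⟩
  cen5 := fun u s hZ j hj hc => cen5 u s (h.zp_iff.mp hZ) j (h.zp_iff.mp hj) hc
  bal := by
    intro u s hZ x hx hxs
    have hZ' := h.zp_iff.mp hZ
    have hsu := h.comm hZ'
    have hf := h.fixes hZ'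
    have hpu := h.sw.pair hZ'.left
    have hss := h.sw.sq hZ'.right
    exact Bal.bal h.sw.sett hA hpu hss hsu hf (pump_comp hpu hss hsu hf) (cen_le_pump hpu hss hsu hf)
      (h.isBig u s hZ') hx hxs.eq

end Clo

/-- **pairs of type (0) outside vessels do not exist** -/
theorem false_of_zero {κ : Kind.{v}} {G : Type v} [Group G] [Finite G] [IsSimpleGroup G]
    (FT : Intrinsic.Functor.OddSol G) (hA : Asch G) (W : World κ G) (hp : ExP κ G) (hX : HeX κ) (hs : Solv κ)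
    (hc : CanConj κ) (hO : HeOut κ) (hL : Bal.AutL κ) (F : Five κ G) {u s : G} {X Y : Subgroup G}
    (hu : IsPair κ u X) (hsY : IsPair κ s Y) (hus : u * s = s * u) (hf : Fixes s X) (hn : s ∉ X) : False := by
  have hC := cloOf W hp hX hs hc hO F
  have huX := one_LL W hp hu
  rw [huX] at hf hn
  have hZ : ZP (DD κ G) (LL κ) u s := hC.mkZ ⟨X, hu⟩ ⟨Y, hsY⟩ hus.symm hf hn
  exact FrameE.false FT hA (hC.swDZ.frameE (hC.restDZ hL F.memC F.cen5)) (z := u) ⟨s, hZ⟩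

end Cfsg.Agent.UGT.I34.HeP
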