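import Cfsg.Agent.UGT.I34.HeP.FrameE

/-!
Elementary consequences of the record `FrameE`: pairs of type (0), the commuting graph on `D`, the stabilizer
of a component.
-/

set_option autoImplicit false
set_option linter.unusedSectionVars false

namespace Cfsg.Agent.UGT.I34.HeP

open Subgroup Cfsg
open Cfsg.Agent.SignalizersComponents
open Cfsg.Agent.SignalizersComponents.PLayerAut
open Cfsg.Agent.SignalizersComponents.IntrinsicBasic
open Cfsg.Agent.SignalizersComponents.RelSylow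
open Cfsg.Agent.Intrinsic.WOneA (Ce OC mem_Ce mul_self_of_order ne_one_of_order order_two
  inv_eq_of_order pow_of_order orderOf_cj conj_eq_of_commute commute_of_conj_eq normalizes)

namespace FrameE

variable {G : Type*} [Group G] (F : FrameE G)

theorem K_le (u : G) : F.K u ≤ Ce u := cenMod_le _ _

theorem L_le {u : G} (hu : u ∈ F.D) : F.L u ≤ Ce u := (F.L_comp u hu).le

theorem mem_K {u k : G} (hu : u ∈ F.D) :
    k ∈ F.K u ↔ k ∈ Ce u ∧ ∀ l ∈ F.L u, l⁻¹ * (k * l * k⁻¹) ∈ OC u :=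
  mem_cenMod (F.L_le hu)

theorem self_mem_K {u : G} (hu : u ∈ F.D) : u ∈ F.K u := by
  rw [F.mem_K hu]
  refine ⟨mem_Ce.mpr (Commute.refl u), fun l hl => ?_⟩
  have h : Commute u l := (mem_Ce.mp (F.L_le hu hl)).symm
  rw [conj_eq_of_commute h, inv_mul_cancel]
  exact one_mem _

theorem K_conj {u : G} (hu : u ∈ F.D) (g : G) : F.K (g * u * g⁻¹) = cj g (F.K u) := by
  unfold K Ce
  rw [cj_cenMod g (F.L_le hu), cj_centralizer, F.L_conj u hu]

theorem cmp_le {u x : G} (hu : u ∈ F.D) (hx : x ∈ F.K u) (hx2 : orderOf x = 2) :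
    F.cmp x u ≤ Ce x := (F.cmp_comp u hu x hx hx2).le

theorem self_mem_cmp {u x : G} (hu : u ∈ F.D) (hx : x ∈ F.K u)
    (hx2 : orderOf x = 2) : u ∈ F.cmp x u :=
  F.mem_cmp u hu x hx hx2 u (F.self_mem u hu) 1 (pow_of_order (F.ord u hu))
    (mem_Ce.mp (F.K_le u hx)).symm

variable {F}

theorem Z.ne {u s : G} (h : F.Z u s) : u ≠ s := fun e => h.nmem (e ▸ F.self_mem u h.left)

theorem Z.K_left {u s : G} (h : F.Z u s) : s ∈ F.K u := h.mem

theorem Z.K_right {u s : G} (h : F.Z u s) : u ∈ F.K s := F.symm u h.left s h.right h.mem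

theorem Z.symm {u s : G} (h : F.Z u s) : F.Z s u :=
  ⟨h.right, h.left, Z.K_right h, fun h1 => h.nmem (F.mem_symm s h.right u h.left h1)⟩

theorem Z.comm {u s : G} (h : F.Z u s) : Commute u s := (mem_Ce.mp (F.K_le u h.mem)).symm

theorem Z.conj {u s : G} (h : F.Z u s) (g : G) : F.Z (g * u * g⁻¹) (g * s * g⁻¹) := by
  refine ⟨F.conj u h.left g, F.conj s h.right g, ?_, ?_⟩
  · have h1 := F.K_conj h.left g
    unfold K at h1
    rw [h1]
    exact conj_mem_cj h.mem
  · rw [F.L_conj u h.left g]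
    rintro ⟨x, hx, e⟩
    apply h.nmem
    have e1 : g * x * g⁻¹ = g * s * g⁻¹ := e
    have e2 : x = s := mul_left_cancel (mul_right_cancel e1)
    rw [← e2]; exact hx

theorem Z.orderOf_mul {u s : G} (h : F.Z u s) : orderOf (u * s) = 2 := by
  have hc := Z.comm h
  apply order_two
  · calc u * s * (u * s) = u * (s * u) * s := by group
      _ = u * (u * s) * s := by rw [hc.eq]
      _ = (u * u) * (s * s) := by group
      _ = 1 := by
        rw [mul_self_of_order (F.ord u h.left), mul_self_of_order (F.ord s h.right), one_mul]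
  · intro e
    apply Z.ne h
    have h1 : u = s⁻¹ := eq_inv_of_mul_eq_one_left e
    rw [h1, inv_eq_of_order (F.ord s h.right)]

/-- inheritance -/
theorem Z.of_mem_cmp {u s t : G} (h : F.Z u s) (htD : t ∈ F.D) (ht : t ∈ F.cmp s u) :
    F.Z t s ∧ F.cmp s t = F.cmp s u := by
  obtain ⟨g, hg, rfl⟩ := F.big u s h t htD ht
  have hs2 := F.ord s h.right
  have hgs : Commute g s := mem_Ce.mp (F.cmp_le h.left h.mem hs2 hg)
  have e : g * s * g⁻¹ = s := conj_eq_of_commute hgs
  have h1 := Z.conj h g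
  rw [e] at h1
  refine ⟨h1, ?_⟩
  have h2 := F.cmp_conj u h.left s h.mem hs2 g
  rw [e] at h2
  rw [h2]
  exact cj_eq_self_of_mem hg

theorem Z.mem_cmp {u s a : G} (h : F.Z u s) (ha : a ∈ F.L u) {n : ℕ} (hn : a ^ 2 ^ n = 1)
    (hc : Commute a s) : a ∈ F.cmp s u :=
  F.mem_cmp u h.left s h.mem (F.ord s h.right) a ha n hn hc

theorem Z.inherit {u s t : G} (h : F.Z u s) (ht : t ∈ F.L u) (htD : t ∈ F.D)
    (hc : Commute t s) : F.Z t s ∧ F.cmp s t = F.cmp s u :=
  Z.of_mem_cmp h htD (Z.mem_cmp h ht (pow_of_order (F.ord t htD)) hc)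

theorem Z.cmp_ne {u s x : G} (h : F.Z u s) (hx2 : orderOf x = 2) (hxu : x ∈ F.K u)
    (hxs : x ∈ F.K s) : F.cmp x u ≠ F.cmp x s := by
  intro e
  have h1 : s ∈ F.cmp x s := F.self_mem_cmp h.right hxs hx2
  rw [← e] at h1
  exact h.nmem (F.of_cmp u h.left x hxu hx2 s h1 (F.ord s h.right) h.mem)

/-- (C2) for all pairs which are not of type (0): `v` commuting with `u, s` is in `M_s(L_u)` unless
`(u, v)` is of type (0) -/
theorem Z.mem_cmp_of_not {u s v : G} (h : F.Z u s) (hv : v ∈ F.D) (hn : ¬ F.Z u v)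
    (hvu : Commute v u) (hvs : Commute v s) : v ∈ F.cmp s u := by
  by_cases h1 : v ∈ F.L u
  · exact Z.mem_cmp h h1 (pow_of_order (F.ord v hv)) hvs
  by_cases h2 : v ∈ cenMod (Ce u) (F.L u)
  · exact absurd ⟨h.left, hv, h2, h1⟩ hn
  exact (F.memC u s h v hv hvu hvs h1 h2).2

/-! ### the commuting graph -/

theorem Con.refl (a : G) : F.Con a a := Relation.ReflTransGen.refl

theorem Con.trans {a b c : G} (h : F.Con a b) (h' : F.Con b c) : F.Con a c :=
  Relation.ReflTransGen.trans h h'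

theorem Con.of_adj {a b : G} (ha : a ∈ F.D) (hb : b ∈ F.D) (h : Commute a b) : F.Con a b :=
  Relation.ReflTransGen.single ⟨ha, hb, h⟩

theorem Con.symm {a b : G} (h : F.Con a b) : F.Con b a := by
  induction h with
  | refl => exact Con.refl _
  | tail _ hbc ih => exact Con.trans (Con.of_adj hbc.2.1 hbc.1 hbc.2.2.symm) ih

theorem Con.conj {a b : G} (h : F.Con a b) (g : G) : F.Con (g * a * g⁻¹) (g * b * g⁻¹) := by
  induction h with
  | refl => exact Con.refl _
  | tail _ hbc ih =>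
    refine Con.trans ih (Con.of_adj (F.conj _ hbc.1 g) (F.conj _ hbc.2.1 g) ?_)
    exact (Commute.map hbc.2.2 (MulAut.conj g).toMonoidHom : _)

theorem Con.mem {a b : G} (h : F.Con a b) (ha : a ∈ F.D) : b ∈ F.D := by
  induction h with
  | refl => exact ha
  | tail _ hbc _ => exact hbc.2.1

theorem Con.of_z {a b : G} (h : F.Z a b) : F.Con a b := Con.of_adj h.left h.right (Z.comm h)

variable (F) in
/-- the stabilizer of the component of `z` -/
def stab (z : G) : Subgroup G where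
  carrier := {g | F.Con z (g * z * g⁻¹)}
  mul_mem' := by
    intro g h hg hh
    have h1 := Con.conj (show F.Con z (h * z * h⁻¹) from hh) g
    have h2 := Con.trans (show F.Con z (g * z * g⁻¹) from hg) h1
    have e : g * (h * z * h⁻¹) * g⁻¹ = g * h * z * (g * h)⁻¹ := by group
    rw [e] at h2
    exact h2
  one_mem' := by
    show F.Con z (1 * z * 1⁻¹)
    rw [one_mul, inv_one, mul_one]
  inv_mem' := by
    intro g hg
    have h1 := Con.conj (show F.Con z (g * z * g⁻¹) from hg) g⁻¹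
    have e : g⁻¹ * (g * z * g⁻¹) * g⁻¹⁻¹ = z := by group
    rw [e] at h1
    exact Con.symm h1

theorem mem_stab {z g : G} : g ∈ F.stab z ↔ F.Con z (g * z * g⁻¹) := Iff.rfl

/-- `g ∈ stab z` if `g` maps some element of `Γ_z` into `Γ_z` -/
theorem mem_stab_of {z w g : G} (h : F.Con z w) (h' : F.Con z (g * w * g⁻¹)) : g ∈ F.stab z := by
  rw [mem_stab]
  exact Con.trans h' (Con.symm (Con.conj h g))

theorem conj_of_mem_stab {z w g : G} (hg : g ∈ F.stab z) (h : F.Con z w) :
    F.Con z (g * w * g⁻¹) :=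
  Con.trans (mem_stab.mp hg) (Con.conj h g)

/-- `C(u) ≤ stab z` for `u ∈ Γ_z` -/
theorem Ce_le_stab {z u : G} (h : F.Con z u) : Ce u ≤ F.stab z := by
  intro g hg
  apply mem_stab_of h
  rw [conj_eq_of_commute (mem_Ce.mp hg)]
  exact h

/-- `Γ_z ⊆ stab z` -/
theorem mem_stab_of_con {z u : G} (h : F.Con z u) : u ∈ F.stab z :=
  Ce_le_stab h (mem_Ce.mpr (Commute.refl u))

end FrameE

end Cfsg.Agent.UGT.I34.HeP
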