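import Cfsg.Agent.UGT.I34.HeP.Base

/-!
# I34 [C], supply of `FrameE`: the field `se`

`conn_big`: a set containing `u`, closed under commuting conjugates of `u` in the big component `M` and under
conjugation by `O(M)`, contains all conjugates of `u` under `M` ((HE2)).
-/

set_option autoImplicit false
set_option linter.unusedSectionVars false
set_option linter.unusedVariables false

open Cfsg Subgroup
open Cfsg.Agent.SignalizersComponents Cfsg.Agent.Lib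
open Cfsg.Agent.SignalizersComponents.IntrinsicBasic
open Cfsg.Agent.SignalizersComponents.PLayerAut
open Cfsg.Agent.SignalizersComponents.RelSylow
open Cfsg.Agent.Intrinsic
open Cfsg.Agent.Intrinsic.Basic hiding IsPair PQS Target IsPair.sq IsPair.ne_one IsPair.cj
open Cfsg.Agent.Intrinsic.Cen hiding pair_comm pair_mem_cen exists_pump pump_unique
open Cfsg.Agent.Intrinsic.Quot hiding Big isPair_quot small_or_big
open Cfsg.Agent.Intrinsic.WOneA (Ce OC)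
open Cfsg.Agent.UGT.I34.Pair Cfsg.Agent.UGT.I34.WOne
open Cfsg.Agent.UGT.I34.Four (Sett Can HeT Klein)
open Cfsg.Agent.McLLyComp.Act hiding mk_eq_one_iff

namespace Cfsg.Agent.UGT.I34.HeP

universe v

variable {G : Type v} [Group G] [Finite G] {κ : Kind.{v}}

/-- (HE2) for a big component, with core -/
theorem conn_big (hX : HeX κ) {u : G} {J M : Subgroup G} (hu2 : u * u = 1) {hu : u ∈ M}
    (hT : κ.T (↥M ⧸ oddCore ↥M) (QuotientGroup.mk ⟨u, hu⟩) (qs M J))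
    (hp : IsPair κ (QuotientGroup.mk ⟨u, hu⟩ : ↥M ⧸ oddCore ↥M) (qs M J)) (S : Set G) (huS : u ∈ S)
    (hS : ∀ t ∈ S, ∀ g ∈ M, Commute t (g * u * g⁻¹) → g * u * g⁻¹ ∈ S)
    (hSc : ∀ t ∈ S, ∀ o ∈ core M, o * t * o⁻¹ ∈ S) : ∀ g ∈ M, g * u * g⁻¹ ∈ S := by
  have hgM : ∀ g ∈ M, g * u * g⁻¹ ∈ M := fun g hg => mul_mem (mul_mem hg hu) (inv_mem hg)
  have key := hX.conn hT hp {q | (∃ g, q = g * QuotientGroup.mk ⟨u, hu⟩ * g⁻¹) ∧
    ∀ g (hg : g ∈ M), (QuotientGroup.mk ⟨g * u * g⁻¹, hgM g hg⟩ : ↥M ⧸ oddCore ↥M) = q →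
      g * u * g⁻¹ ∈ S} ?_ ?_
  · intro g hg
    exact (key (QuotientGroup.mk ⟨g, hg⟩)).2 g hg rfl
  · refine ⟨⟨1, by group⟩, fun g hg e => ?_⟩
    obtain ⟨o, ho, e1⟩ := exists_core_conj hu (hgM g hg) hu2 (sq_cj hu2) e.symm
    rw [← e1]
    exact hSc u huS o ho
  · rintro s ⟨⟨g1, rfl⟩, hs⟩ g hcom
    refine ⟨⟨g, rfl⟩, fun g' hg' e => ?_⟩
    obtain ⟨⟨a1, ha1⟩, rfl⟩ := QuotientGroup.mk_surjective g1
    have h1 := hs a1 ha1 rfl
    rw [← e] at hcom
    obtain ⟨o, ho, h2⟩ := exists_core_comm' (n := 1) (c := g' * u * g'⁻¹) (y := a1 * u * a1⁻¹)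
      (by rw [pow_one, pow_two]; exact sq_cj hu2) (hgM g' hg') (sq_cj hu2) (hgM a1 ha1) hcom
    exact hS _ (hSc _ h1 o ho) g' hg' h2

namespace SW

variable {D : Set G} {L : G → Subgroup G} {u v t x s a b : G}

/-- the field `se` -/
theorem se (h : SW κ D L) : ∀ u ∈ D, ∀ x ∈ cenMod (Ce u) (L u), orderOf x = 2 → ∀ S : Set G,
    u ∈ S → (∀ t ∈ S, ∀ t' ∈ D, t' ∈ pump x (L u) → Commute t t' → t' ∈ S) →
    (∀ t ∈ S, ∀ o ∈ OC x, o * t * o⁻¹ ∈ S) → ∀ t ∈ D, t ∈ pump x (L u) → t ∈ S := by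
  intro u hu x hx hx2 S huS hS hSc t ht htM
  obtain ⟨h1, h2⟩ := (h.mem_K hu).mp hx
  have hxx := sq_of hx2
  have huM := mem_pump (h.pair hu) hxx h1 h2
  have hM := pump_comp (h.pair hu) hxx h1 h2
  have hc : core (pump x (L u)) ≤ OC x := hM.core_le_core
  rcases h.small_or_big hu hxx (ne_of hx2) h1 h2 with hs | hb
  · have hf := hs.fixes (h.pair hu) h1
    have h3 : (QuotientGroup.mk ⟨u, huM⟩ : ↥(pump x (L u)) ⧸ oddCore ↥(pump x (L u))) ∈ center _ :=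
      (W1.mk_center_iff huM).mpr hf
    obtain ⟨o, ho, hcom⟩ := exists_core_comm' (n := 1) (by rw [pow_one, pow_two, h.sq ht]) htM
      (h.sq hu) huM (mem_center_iff.mp h3 _).symm
    exact hS _ (hSc u huS o (hc ho)) t ht htM hcom
  · obtain ⟨huM', hT, hp⟩ := h.big_pair hu hxx h1 h2 hb
    obtain ⟨g, hg, rfl⟩ := h.cls hu hxx (ne_of hx2) h1 h2 hb ht htM
    refine conn_big h.hex (h.sq hu) hT hp S huS (fun t ht g hg hcom => ?_)
      (fun t ht o ho => hSc t ht o (hc ho)) g hg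
    exact hS t ht _ (h.conj hu g) (mul_mem (mul_mem hg huM) (inv_mem hg)) hcom

end SW

end Cfsg.Agent.UGT.I34.HeP
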