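import Cfsg.Agent.UGT.I34.HeP.FrameE
import Cfsg.Agent.SignalizersComponents.CoprimeGen

/-!
Theorem I34, part [C], text #15072, STEP 3: the stabilizer `N` of a component `Γ` of the commuting graph on `D`.

* `Ce_le` (N1): `C(y) ≤ N` for an involution `y ∈ K_s`, `s ∈ Γ`;
* `no_swap` (N2): an element of `D` does not swap a pair of type (0);
* `con_of_mem` (N3): `D ∩ N = Γ` if `N ≠ G`; `mem_of_conj`.
-/

set_option autoImplicit false

namespace Cfsg.Agent.UGT.I34.HeP.Stab

open Subgroup Cfsg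
open Cfsg.Agent.SignalizersComponents
open Cfsg.Agent.SignalizersComponents.PLayerAut
open Cfsg.Agent.SignalizersComponents.IntrinsicBasic
open Cfsg.Agent.SignalizersComponents.RelSylow
open Cfsg.Agent.Intrinsic.WOneA (Ce OC mem_Ce mul_self_of_order ne_one_of_order order_two
  inv_eq_of_order pow_of_order orderOf_cj conj_eq_of_commute)

variable {G : Type*} [Group G] {F : FrameE G}

/-! ### elementary facts -/

theorem K_le (u : G) : F.K u ≤ Ce u := cenMod_le _ _

theorem L_le {u : G} (hu : u ∈ F.D) : F.L u ≤ Ce u := (F.L_comp u hu).le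

theorem mem_K {u k : G} (hu : u ∈ F.D) :
    k ∈ F.K u ↔ k ∈ Ce u ∧ ∀ l ∈ F.L u, l⁻¹ * (k * l * k⁻¹) ∈ OC u :=
  mem_cenMod (L_le hu)

theorem self_mem_K {u : G} (hu : u ∈ F.D) : u ∈ F.K u := by
  rw [mem_K hu]
  refine ⟨mem_Ce.mpr (Commute.refl u), fun l hl => ?_⟩
  have h : Commute u l := (mem_Ce.mp (L_le hu hl)).symm
  rw [conj_eq_of_commute h, inv_mul_cancel]
  exact one_mem _

theorem K_conj {u : G} (hu : u ∈ F.D) (g : G) : F.K (g * u * g⁻¹) = cj g (F.K u) := by
  unfold FrameE.K Ce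
  rw [cj_cenMod g (L_le hu), cj_centralizer, F.L_conj u hu]

theorem K_right {u s : G} (h : F.Z u s) : u ∈ F.K s := F.symm u h.left s h.right h.mem

theorem zsymm {u s : G} (h : F.Z u s) : F.Z s u :=
  ⟨h.right, h.left, K_right h, fun h1 => h.nmem (F.mem_symm s h.right u h.left h1)⟩

theorem zcomm {u s : G} (h : F.Z u s) : Commute u s := (mem_Ce.mp (K_le (F := F) u h.mem)).symm

theorem zne {u s : G} (h : F.Z u s) : u ≠ s := by
  rintro rfl
  exact h.nmem (F.self_mem _ h.left)

theorem zconj {u s : G} (h : F.Z u s) (g : G) : F.Z (g * u * g⁻¹) (g * s * g⁻¹) := by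
  refine ⟨F.conj u h.left g, F.conj s h.right g, ?_, ?_⟩
  · have h1 := K_conj (F := F) h.left g
    unfold FrameE.K at h1
    rw [h1]
    exact conj_mem_cj h.mem
  · rw [F.L_conj u h.left g]
    intro h1
    apply h.nmem
    obtain ⟨y, hy, hys⟩ := h1
    have h2 : g * y * g⁻¹ = g * s * g⁻¹ := hys
    have h3 : y = s := mul_left_cancel (mul_right_cancel h2)
    exact h3 ▸ hy

theorem order_mul {u s : G} (hu : orderOf u = 2) (hs : orderOf s = 2) (hc : Commute u s)
    (hne : u ≠ s) : orderOf (u * s) = 2 := by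
  apply order_two
  · calc u * s * (u * s) = u * (s * u) * s := by group
      _ = u * (u * s) * s := by rw [hc.eq]
      _ = (u * u) * (s * s) := by group
      _ = 1 := by rw [mul_self_of_order hu, mul_self_of_order hs, one_mul]
  · intro e
    apply hne
    have h1 : u = s⁻¹ := eq_inv_of_mul_eq_one_left e
    rw [h1, inv_eq_of_order hs]

theorem self_mem_cmp {u x : G} (hu : u ∈ F.D) (hx : x ∈ F.K u) (hx2 : orderOf x = 2) :
    u ∈ F.cmp x u :=
  F.mem_cmp u hu x hx hx2 u (F.self_mem u hu) 1 (pow_of_order (F.ord u hu))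
    (mem_Ce.mp (K_le (F := F) u hx)).symm

/-- the pump-ups of a pair of type (0) are different -/
theorem cmp_ne {u s x : G} (h : F.Z u s) (hxu : x ∈ F.K u) (hxs : x ∈ F.K s) (hx2 : orderOf x = 2) :
    F.cmp x u ≠ F.cmp x s := by
  intro e
  have h1 : u ∈ F.cmp x s := e ▸ self_mem_cmp h.left hxu hx2
  have h2 := F.of_cmp s h.right x hxs hx2 u h1 (F.ord u h.left) (K_right h)
  exact h.nmem (F.mem_symm s h.right u h.left h2)

/-! ### the component and its stabilizer -/

theorem Con.refl (a : G) : F.Con a a := Relation.ReflTransGen.refl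

theorem Con.of_adj {a b : G} (ha : a ∈ F.D) (hb : b ∈ F.D) (h : Commute a b) : F.Con a b :=
  Relation.ReflTransGen.single ⟨ha, hb, h⟩

theorem Con.symm {a b : G} (h : F.Con a b) : F.Con b a := by
  induction h with
  | refl => exact Relation.ReflTransGen.refl
  | tail _ hbc ih => exact Relation.ReflTransGen.trans (Con.of_adj hbc.2.1 hbc.1 hbc.2.2.symm) ih

theorem Con.conj {a b : G} (h : F.Con a b) (g : G) : F.Con (g * a * g⁻¹) (g * b * g⁻¹) := by
  induction h with
  | refl => exact Relation.ReflTransGen.refl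
  | tail _ hbc ih =>
    refine Relation.ReflTransGen.trans ih (Con.of_adj (F.conj _ hbc.1 g) (F.conj _ hbc.2.1 g) ?_)
    exact (Commute.map hbc.2.2 (MulAut.conj g).toMonoidHom : _)

theorem Con.mem {a b : G} (h : F.Con a b) (ha : a ∈ F.D) : b ∈ F.D := by
  induction h with
  | refl => exact ha
  | tail _ hbc _ => exact hbc.2.1

theorem Con.adj {z u v : G} (hu : F.Con z u) (huD : u ∈ F.D) (hv : v ∈ F.D) (hc : Commute u v) :
    F.Con z v := Relation.ReflTransGen.trans hu (Con.of_adj huD hv hc)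

variable (F) in
/-- the stabilizer of the connected component of `z` -/
def N (z : G) : Subgroup G where
  carrier := {g | F.Con z (g * z * g⁻¹)}
  mul_mem' := by
    intro g h hg hh
    have h1 := Con.conj (show F.Con z (h * z * h⁻¹) from hh) g
    have h2 := Relation.ReflTransGen.trans (show F.Con z (g * z * g⁻¹) from hg) h1
    have e : g * (h * z * h⁻¹) * g⁻¹ = g * h * z * (g * h)⁻¹ := by group
    rw [e] at h2
    exact h2
  one_mem' := by
    have e : (1 : G) * z * 1⁻¹ = z := by group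
    show F.Con z (1 * z * 1⁻¹)
    rw [e]
  inv_mem' := by
    intro g hg
    have h1 := Con.conj (show F.Con z (g * z * g⁻¹) from hg) g⁻¹
    have e : g⁻¹ * (g * z * g⁻¹) * g⁻¹⁻¹ = z := by group
    rw [e] at h1
    exact Con.symm h1

theorem mem_N {z g : G} : g ∈ N F z ↔ F.Con z (g * z * g⁻¹) := Iff.rfl

theorem mem_N_iff {z u g : G} (hu : F.Con z u) : g ∈ N F z ↔ F.Con z (g * u * g⁻¹) := by
  rw [mem_N]
  constructor
  · intro h; exact Relation.ReflTransGen.trans h (Con.conj hu g)
  · intro h; exact Relation.ReflTransGen.trans h (Con.symm (Con.conj hu g))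

theorem Ce_le_N {z u : G} (hu : F.Con z u) : Ce u ≤ N F z := by
  intro c hc
  rw [mem_N_iff hu, conj_eq_of_commute (mem_Ce.mp hc)]
  exact hu

/-! ### (N1) -/

variable [Finite G]

/-- `O(C(y)) ≤ N` -/
theorem OC_le {z s y : G} (hz : z ∈ F.D) (hs : F.Con z s) (hy : y ∈ F.K s) (hy2 : orderOf y = 2) :
    OC y ≤ N F z := by
  have h2 : Fact (Nat.Prime 2) := ⟨Nat.prime_two⟩
  have hsD := Con.mem hs hz
  have hs2 := F.ord s hsD
  obtain ⟨t, htL, htD, htne, hstD, htc⟩ := F.exists_inv s hsD (zpowers y) (by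
      apply IsPGroup.of_card (n := 1)
      rw [Nat.card_zpowers, hy2]; norm_num) (by rw [zpowers_le]; exact hy)
  have hty : Commute t y := htc y (mem_zpowers y)
  have ht2 := F.ord t htD
  have hts : Commute t s := mem_Ce.mp (L_le hsD htL)
  have hsy : Commute s y := (mem_Ce.mp (K_le (F := F) s hy)).symm
  have hst2 := F.ord _ hstD
  have hne : s ≠ t := fun e => htne e.symm
  have hcont : F.Con z t := Con.adj hs hsD htD hts.symm
  have hconst : F.Con z (s * t) := Con.adj hs hsD hstD ((Commute.refl s).mul_right hts.symm)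
  obtain ⟨A, hA⟩ : ∃ A : Subgroup G, (A : Set G) = {1, s, t, s * t} := by
    refine ⟨{ carrier := {1, s, t, s * t}, mul_mem' := ?_, one_mem' := by simp, inv_mem' := ?_ }, rfl⟩
    · have huu := mul_self_of_order hs2
      have htt := mul_self_of_order ht2
      have e1 : t * s = s * t := hts.eq
      have e2 : s * (s * t) = t := by rw [← mul_assoc, huu, one_mul]
      have e3 : t * (s * t) = s := by rw [← mul_assoc, e1, mul_assoc, htt, mul_one]
      have e4 : s * t * s = t := by rw [mul_assoc, e1, e2]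
      have e5 : s * t * t = s := by rw [mul_assoc, htt, mul_one]
      have e6 : s * t * (s * t) = 1 := mul_self_of_order hst2
      rintro a b (rfl | rfl | rfl | rfl) (rfl | rfl | rfl | rfl) <;>
        simp [huu, htt, e1, e2, e3, e4, e5, e6]
    · rintro a (rfl | rfl | rfl | rfl)
      · simp
      · rw [inv_eq_of_order hs2]; simp
      · rw [inv_eq_of_order ht2]; simp
      · show (s * t)⁻¹ ∈ _
        rw [inv_eq_of_order hst2]; simp
  have hmemA : ∀ a, a ∈ A ↔ a = 1 ∨ a = s ∨ a = t ∨ a = s * t := by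
    intro a
    rw [← SetLike.mem_coe, hA]; simp
  have hAel : Cfsg.IsElementaryAbelian 2 A := by
    refine ⟨⟨⟨?_⟩⟩, ?_⟩
    · rintro ⟨a, ha⟩ ⟨b, hb⟩
      apply Subtype.ext
      show a * b = b * a
      rcases (hmemA a).mp ha with rfl | rfl | rfl | rfl <;>
        rcases (hmemA b).mp hb with rfl | rfl | rfl | rfl
      all_goals first
        | rfl
        | simp
        | exact hts.eq
        | exact hts.eq.symm
        | exact ((Commute.refl _).mul_right hts.symm).eq
        | exact ((Commute.refl _).mul_right hts.symm).eq.symm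
        | exact (hts.mul_right (Commute.refl _)).eq
        | exact (hts.mul_right (Commute.refl _)).eq.symm
    · intro a ha
      rw [pow_two]
      rcases (hmemA a).mp ha with rfl | rfl | rfl | rfl
      · exact one_mul 1
      · exact mul_self_of_order hs2
      · exact mul_self_of_order ht2
      · exact mul_self_of_order hst2
  have hsne1 : s ≠ 1 := ne_one_of_order hs2
  have htne1 : t ≠ 1 := ne_one_of_order ht2
  have hstne1 : s * t ≠ 1 := ne_one_of_order hst2
  have hA4 : 2 ^ 2 ≤ Nat.card A := by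
    have h3 : Nat.card A = Set.ncard ({1, s, t, s * t} : Set G) := by
      rw [← hA]; rfl
    rw [h3]
    have hne1 : s ≠ s * t := fun e => htne1 (mul_left_cancel (e.symm.trans (mul_one s).symm))
    have hne2 : t ≠ s * t := fun e => hsne1 (mul_right_cancel (e.symm.trans (one_mul t).symm))
    rw [Set.ncard_insert_of_notMem (by
        simp only [Set.mem_insert_iff, Set.mem_singleton_iff, not_or]
        exact ⟨hsne1.symm, htne1.symm, hstne1.symm⟩),
      Set.ncard_insert_of_notMem (by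
        simp only [Set.mem_insert_iff, Set.mem_singleton_iff, not_or]
        exact ⟨hne, hne1⟩),
      Set.ncard_insert_of_notMem (by
        simp only [Set.mem_singleton_iff]
        exact hne2),
      Set.ncard_singleton]
    norm_num
  have hAx : A ≤ Ce y := by
    intro a ha
    rw [mem_Ce]
    rcases (hmemA a).mp ha with rfl | rfl | rfl | rfl
    · exact Commute.one_left y
    · exact hsy
    · exact hty
    · exact hsy.mul_left hty
  have hOn : Ce y ≤ normalizer (OC y : Set G) :=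
    le_normalizer.trans (normalizer_le_normalizer_relCore 2 _)
  have hodd : ¬ 2 ∣ Nat.card (OC y) := by
    have := odd_card_relCore (Ce y)
    intro hd
    exact (Nat.not_even_iff_odd.mpr this) (even_iff_two_dvd.mpr hd)
  refine (CoprimeGen.le_iSup_centralizer_ne_one (p := 2) hAel hA4 hodd (hAx.trans hOn)).trans ?_
  refine iSup_le fun a => ?_
  refine inf_le_right.trans ?_
  have ha := (hmemA a.1).mp a.2.1
  rcases ha with e | e | e | e
  · exact absurd e a.2.2
  · rw [e]; exact Ce_le_N hs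
  · rw [e]; exact Ce_le_N hcont
  · rw [e]; exact Ce_le_N hconst

/-- an involution `u'` of `D` with `[u, u'] ∈ O(C(y))` has a conjugate under `O(C(y))` commuting with `u` -/
theorem exists_comm {y u u' : G} (hu : orderOf u = 2) (hu' : orderOf u' = 2) (huy : u ∈ Ce y)
    (hu'y : u' ∈ Ce y) (h : u'⁻¹ * (u * u' * u⁻¹) ∈ OC y) :
    ∃ o ∈ OC y, Commute u (o * u' * o⁻¹) := by
  have hOn : Ce y ≤ normalizer (OC y : Set G) :=
    le_normalizer.trans (normalizer_le_normalizer_relCore 2 _)
  obtain ⟨o, ho, hoo, hcom⟩ := Cfsg.Agent.Intrinsic.Lifting.exists_involution (odd_card_relCore (Ce y))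
    (v := u) (x := u') (n := 1) (pow_of_order hu) (hOn huy) (hOn hu'y)
    (by rw [mul_self_of_order hu']; exact one_mem _) h
  obtain ⟨o', ho', hconj⟩ := Cfsg.Agent.Intrinsic.Lifting.exists_conj_eq (odd_card_relCore (Ce y)) (v := u')
    (v' := u' * o) (n := 1) (m := 1) (pow_of_order hu')
    (by rw [pow_one, pow_two]; exact hoo) (hOn hu'y) (by rw [inv_mul_cancel_left]; exact ho)
  exact ⟨o', ho', by rw [hconj]; exact hcom⟩

/-- **(N1)** -/
theorem Ce_le {z s y : G} (hz : z ∈ F.D) (hs : F.Con z s) (hy : y ∈ F.K s) (hy2 : orderOf y = 2) :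
    Ce y ≤ N F z := by
  have hsD := Con.mem hs hz
  have hs2 := F.ord s hsD
  have hO := OC_le hz hs hy hy2
  have hsy : Commute s y := (mem_Ce.mp (K_le (F := F) s hy)).symm
  have hM := F.cmp_comp s hsD y hy hy2
  have hsM := self_mem_cmp hsD hy hy2
  intro c hc
  have hcy : c * y * c⁻¹ = y := conj_eq_of_commute (mem_Ce.mp hc)
  obtain ⟨s', hs'⟩ : ∃ s', s' = c * s * c⁻¹ := ⟨_, rfl⟩
  have hs'D : s' ∈ F.D := hs' ▸ F.conj s hsD c
  have hs'2 := F.ord s' hs'D
  have hs'M : s' ∈ IntrinsicBasic.cj c (F.cmp y s) := by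
    rw [hs']; exact conj_mem_cj hsM
  have hM'c : TC (Ce y) (IntrinsicBasic.cj c (F.cmp y s)) := hM.cj_of_mem (le_normalizer hc)
  rw [mem_N_iff hs, ← hs']
  by_cases e : IntrinsicBasic.cj c (F.cmp y s) = F.cmp y s
  · rw [e] at hs'M
    refine F.se s hsD y hy hy2 {w | F.Con z w} hs ?_ ?_ s' hs'D hs'M
    · intro t ht t' ht' _ hcom
      exact Con.adj ht (Con.mem ht hz) ht' hcom
    · intro t ht o ho
      exact (mem_N_iff ht).mp (hO ho)
  · have h1 : s'⁻¹ * (s * s' * s⁻¹) ∈ OC y :=
      ((mem_cenMod hM'c.le).mp (hM'c.le_cenMod hM e hsM)).2 s' hs'M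
    obtain ⟨o, ho, hcom⟩ := exists_comm hs2 hs'2 (mem_Ce.mpr hsy) (hM'c.le hs'M) h1
    have h2 : F.Con z (o * s' * o⁻¹) := Con.adj hs hsD (F.conj s' hs'D o) hcom
    have h3 := (mem_N_iff h2).mp ((N F z).inv_mem (hO ho))
    rwa [show o⁻¹ * (o * s' * o⁻¹) * o⁻¹⁻¹ = s' by group] at h3

/-! ### (N2), (N3) -/

/-- **(N2)** -/
theorem no_swap {b t : G} (hb : b ∈ F.D) (h : F.Z t (b * t * b⁻¹)) : False := by
  have hb2 := F.ord b hb
  have hbi := inv_eq_of_order hb2
  have ht2 := F.ord t h.left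
  obtain ⟨t', ht'⟩ : ∃ t', t' = b * t * b⁻¹ := ⟨_, rfl⟩
  rw [← ht'] at h
  have ht'2 := F.ord t' h.right
  have hc := zcomm h
  have hne := zne h
  obtain ⟨c, hcd⟩ : ∃ c, c = t * t' := ⟨_, rfl⟩
  have hc2 : orderOf c = 2 := hcd ▸ order_mul ht2 ht'2 hc hne
  obtain ⟨R, hR, hcR, hcL⟩ := F.diag b hb2 t (ht' ▸ h)
  rw [← ht', ← hcd] at hcR hcL
  have hRL : R ≠ F.L b := by
    rintro rfl
    exact hcL hb hcR
  have hcK : c ∈ F.K b := (F.L_comp b hb).le_cenMod hR (Ne.symm hRL) hcR
  have hcKt : c ∈ F.K t := hcd ▸ (F.K t).mul_mem (self_mem_K h.left) h.mem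
  have hcKt' : c ∈ F.K t' := hcd ▸ (F.K t').mul_mem (K_right h) (self_mem_K h.right)
  have hM := F.cmp_comp t h.left c hcKt hc2
  have hMb := F.cmp_comp b hb c hcK hc2
  have hbM := self_mem_cmp hb hcK hc2
  -- `b` normalizes `cmp c t`
  have hbn : IntrinsicBasic.cj b (F.cmp c t) = F.cmp c t := by
    by_cases e : F.cmp c t = F.cmp c b
    · rw [e]; exact mem_normalizer_iff_cj.mp (le_normalizer hbM)
    · have h1 := hM.le_cenMod hMb e hbM
      exact mem_normalizer_iff_cj.mp (hM.cenMod_le_normalizer h1)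
  have hbc : b * c * b⁻¹ = c := by
    have e1 : b * t' * b⁻¹ = t := by
      rw [ht', hbi]
      calc b * (b * t * b) * b = (b * b) * t * (b * b) := by group
        _ = t := by rw [mul_self_of_order hb2, one_mul, mul_one]
    calc b * c * b⁻¹ = (b * t * b⁻¹) * (b * t' * b⁻¹) := by rw [hcd]; group
      _ = t' * t := by rw [e1, ← ht']
      _ = c := by rw [hcd, hc.eq]
  have h3 := F.cmp_conj t h.left c hcKt hc2 b
  rw [hbc, ← ht', hbn] at h3
  exact cmp_ne h hcKt hcKt' hc2 h3.symm

/-- **(N3)** -/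
theorem con_of_mem {z w : G} (hz : z ∈ F.D) (hN : N F z ≠ ⊤) (hw : w ∈ F.D) (hwN : w ∈ N F z) :
    F.Con z w := by
  rcases F.fix_or_swap z hz (N F z) hN (fun u hu => Ce_le_N hu) w hwN (F.ord w hw) with
    ⟨d, hd, hc⟩ | ⟨t, -, ht⟩
  · exact Con.adj hd (Con.mem hd hz) hw hc
  · exact (no_swap hw ht).elim

theorem mem_of_conj {z u g : G} (hz : z ∈ F.D) (hN : N F z ≠ ⊤) (hu : F.Con z u)
    (h : g * u * g⁻¹ ∈ N F z) : g ∈ N F z := by
  rw [mem_N_iff hu]
  exact con_of_mem hz hN (F.conj u (Con.mem hu hz) g) h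

end Cfsg.Agent.UGT.I34.HeP.Stab
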